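import Groth.Agent.AffQuot66.Global
import Groth.Agent.GITQuot.Orbit
import Groth.Agent.GrpSchLib.Action
import Mathlib.AlgebraicGeometry.Morphisms.UniversallyInjective
import Mathlib.FieldTheory.IsAlgClosed.AlgebraicClosure

/-!
Affine quotients of closed actions are geometric.
-/

set_option autoImplicit false
set_option linter.unusedSectionVars false
set_option linter.style.haveILetI false
set_option backward.isDefEq.respectTransparency false
set_option backward.isDefEq.respectTransparency.types false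

universe u

open CategoryTheory CategoryTheory.Limits MonoidalCategory CartesianMonoidalCategory MonObj GrpObj AlgebraicGeometry
open Groth.Agent.GrpSchLib.Kunneth (Fn ev)
open Groth.Agent.GrpSchLib.AffineHopf (sp spMap)

namespace Groth.Agent.AffQuot66

variable {k : Type u} [Field k] {G X Y T : Over (Spec (CommRingCat.of k))} [GrpObj G]
  {a : AlgGrp.Action G X} {φ : X ⟶ Y}

/-- The range of the orbit map of a point is invariant. -/
theorem range_psi_invariant {a' : AlgGrp.Action G (X ⊗ T)}
    (heq : a'.act ≫ fst X T = (G ◁ fst X T) ≫ a.act) (hsnd : a'.act ≫ snd X T = snd G (X ⊗ T) ≫ snd X T)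
    (f : T ⟶ X) :
    a'.act.left.base '' ((snd G (X ⊗ T)).left.base ⁻¹' Set.range (GIT.psi a f).left.base) ⊆
      Set.range (GIT.psi a f).left.base := by
  rintro _ ⟨p, ⟨w, hw⟩, rfl⟩
  obtain ⟨q, hq, -⟩ := Scheme.exists_preimage_of_isPullback
    ((GITQuot.isPullback_tensorLeft (G := G) (GIT.psi a f)).map (Over.forget _)) p w hw.symm
  let m : G ⊗ (G ⊗ T) ⟶ G ⊗ T := lift (fst _ _ * (snd _ _ ≫ fst G T)) (snd _ _ ≫ snd G T)
  have e : (G ◁ GIT.psi a f) ≫ a'.act = m ≫ GIT.psi a f := by
    apply CartesianMonoidalCategory.hom_ext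
    · rw [Category.assoc, heq, ← MonoidalCategory.whiskerLeft_comp_assoc, GIT.psi, lift_fst, Category.assoc,
        lift_fst, lift_whiskerLeft_assoc, Category.assoc, ← GrpSchLib.act_mul]
      rw [← Category.assoc]
      congr 1
      apply CartesianMonoidalCategory.hom_ext
      · simp
      · simp only [Category.assoc, whiskerLeft_snd, lift_snd]
        rw [← Category.assoc (snd _ _)]
        congr 1
        apply CartesianMonoidalCategory.hom_ext <;> simp
    · rw [Category.assoc, hsnd]
      simp [GIT.psi, m]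
  refine ⟨m.left.base q, ?_⟩
  calc (GIT.psi a f).left.base (m.left.base q) = (m ≫ GIT.psi a f).left.base q := rfl
    _ = ((G ◁ GIT.psi a f) ≫ a'.act).left.base q := by rw [e]
    _ = a'.act.left.base p := congrArg a'.act.left.base hq

variable [IsAffine X.left] [IsAffine Y.left] {A : Type u} [CommRing A] [HopfAlgebra k A]
  (e : Grp.mk (sp k A) ≅ Grp.mk G) {α : A →ₗ[k] k} (hα : ComodLib.IsIntegral k α) (h1 : α 1 = 1)
  (hφ : IsPair a φ)

include e hα h1 hφ in
/-- Closed orbits with the same image are equal. -/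
theorem IsPair.mem_range_psi (hcl : GIT.IsClosedAction a) {Ω : Type u} [Field Ω] [IsAlgClosed Ω]
    (t : T.left ≅ Spec (CommRingCat.of Ω)) (f f' : T ⟶ X) (hf : f ≫ φ = f' ≫ φ) (p : T.left) :
    (lift f (𝟙 T)).left.base p ∈ Set.range (GIT.psi a f').left.base := by
  haveI : IsAffine T.left := IsAffine.of_isIso t.hom
  haveI : Subsingleton T.left := t.hom.homeomorph.injective.subsingleton
  haveI : IsAffine (X ⊗ T).left := inferInstanceAs (IsAffine (pullback X.hom T.hom))
  haveI : IsAffine (Y ⊗ T).left := inferInstanceAs (IsAffine (pullback Y.hom T.hom))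
  have hpb : IsPullback (fst X T) (φ ▷ T) φ (fst Y T) :=
    IsPullback.of_map (Over.forget _) (whiskerRight_fst φ T).symm GITQuot.isPullback_whiskerRight
  obtain ⟨a', heq, hinv⟩ := GITQuot.exists_action hφ.inv hpb
  have hp := hφ.baseChange e hα h1 hpb heq hinv
  have hsnd : a'.act ≫ snd X T = snd G (X ⊗ T) ≫ snd X T := by
    have h := congrArg (fun U => U ≫ snd Y T) hinv
    simpa using h
  let Z : Bool → Set (X ⊗ T).left := fun b => bif b then Set.range (GIT.psi a f).left.base
    else Set.range (GIT.psi a f').left.base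
  have hZ : ∀ b, IsClosed (Z b) ∧ a'.act.left.base '' ((snd G (X ⊗ T)).left.base ⁻¹' Z b) ⊆ Z b := fun b => by
    cases b
    · exact ⟨hcl Ω T t f', range_psi_invariant heq hsnd f'⟩
    · exact ⟨hcl Ω T t f, range_psi_invariant heq hsnd f⟩
  have himage : ∀ g : T ⟶ X, g ≫ φ = f ≫ φ →
      (lift (f ≫ φ) (𝟙 T)).left.base p ∈ (φ ▷ T).left.base '' Set.range (GIT.psi a g).left.base := by
    intro g hg
    let u : T ⟶ G ⊗ T := lift 1 (𝟙 T)
    refine ⟨_, ⟨u.left.base p, rfl⟩, ?_⟩
    show (u ≫ GIT.psi a g ≫ (φ ▷ T)).left.base p = _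
    rw [GITQuot.psi_comp hφ.inv g, ← Category.assoc, lift_snd, Category.id_comp, hg]
  obtain ⟨x, hxf, hxf'⟩ : ∃ x, x ∈ Z true ∧ x ∈ Z false := by
    by_contra! h
    obtain ⟨b, hb⟩ := hp.exists_notMem_image e hα h1 Z hZ
      (fun x => (Classical.em (x ∈ Z true)).elim (fun hx => ⟨false, h x hx⟩) fun hx => ⟨true, hx⟩) ((lift (f ≫ φ) (𝟙 T)).left.base p)
    cases b
    · exact hb (himage f' hf.symm)
    · exact hb (himage f rfl)
  obtain ⟨w, hw⟩ := hxf
  let u : G ⊗ T ⟶ G ⊗ (X ⊗ T) := lift (fst G T)⁻¹ (GIT.psi a f)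
  have hu : u ≫ a'.act = snd G T ≫ lift f (𝟙 T) := by
    apply CartesianMonoidalCategory.hom_ext
    · simp only [u, Category.assoc, heq, lift_whiskerLeft_assoc, GIT.psi, lift_fst]
      rw [show (G ◁ f) = lift (fst G T) (snd G T ≫ f) from by
        apply CartesianMonoidalCategory.hom_ext <;> simp, GrpSchLib.act_mul, inv_mul_cancel, GrpSchLib.act_one]
    · simp [u, hsnd, GIT.psi]
  have h := range_psi_invariant heq hsnd f' ⟨u.left.base w, ?_, rfl⟩
  · rw [show a'.act.left.base (u.left.base w) = (u ≫ a'.act).left.base w from rfl, hu] at h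
    rwa [show (snd G T ≫ lift f (𝟙 T)).left.base w = (lift f (𝟙 T)).left.base p from
      congrArg (lift f (𝟙 T)).left.base (Subsingleton.elim _ _)] at h
  · show (u ≫ snd G (X ⊗ T)).left.base w ∈ Set.range (GIT.psi a f').left.base
    rw [lift_snd, hw]
    exact hxf'

/-- The map from the fibre square of `φ` to the square of `X`. -/
noncomputable def sqMap (φ : X ⟶ Y) : pullback φ.left φ.left ⟶ pullback X.hom X.hom :=
  pullback.lift (pullback.fst _ _) (pullback.snd _ _) (by
    rw [← Over.w φ, ← Category.assoc, pullback.condition, Category.assoc])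

omit [IsAffine X.left] [IsAffine Y.left] in
instance mono_sqMap : Mono (sqMap φ) := ⟨fun {W} g g' h => by
  apply pullback.hom_ext
  · simpa [sqMap] using congrArg (· ≫ pullback.fst X.hom X.hom) h
  · simpa [sqMap] using congrArg (· ≫ pullback.snd X.hom X.hom) h⟩

omit [IsAffine X.left] [IsAffine Y.left] in
theorem whisker_psiY_sqMap (hi : GIT.IsInvariant a φ) (f : T ⟶ X) :
    (G ◁ f).left ≫ GIT.PsiY a φ hi ≫ sqMap φ = (GIT.psi a f ≫ (X ◁ f)).left := by
  refine pullback.hom_ext (f := X.hom) (g := X.hom) ?_ ?_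
  · rw [Category.assoc, Category.assoc, sqMap, pullback.lift_fst, GIT.PsiY, pullback.lift_fst]
    change _ = ((GIT.psi a f ≫ (X ◁ f)) ≫ fst X X).left
    rw [Category.assoc, whiskerLeft_fst, GIT.psi, lift_fst]
    rfl
  · rw [Category.assoc, Category.assoc, sqMap, pullback.lift_snd, GIT.PsiY, pullback.lift_snd]
    change _ = ((GIT.psi a f ≫ (X ◁ f)) ≫ snd X X).left
    rw [Category.assoc, whiskerLeft_snd, GIT.psi, lift_snd_assoc, ← Over.comp_left, whiskerLeft_snd]

omit [IsAffine X.left] [IsAffine Y.left] in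
/-- Orbit maps to the square detect the range of `PsiY`. -/
theorem mem_range_psiY (hi : GIT.IsInvariant a φ) (i : T.left ⟶ pullback φ.left φ.left) (f f' : T ⟶ X)
    (h : i ≫ pullback.fst φ.left φ.left = f.left) (h' : i ≫ pullback.snd φ.left φ.left = f'.left) {p : T.left}
    (hp : (lift f (𝟙 T)).left.base p ∈ Set.range (GIT.psi a f').left.base) :
    i.base p ∈ Set.range (GIT.PsiY a φ hi).base := by
  obtain ⟨w, hw⟩ := hp
  refine ⟨(G ◁ f').left.base w, (sqMap φ).injective ?_⟩
  have e2 : i ≫ sqMap φ = (lift f (𝟙 T) ≫ (X ◁ f')).left := by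
    refine pullback.hom_ext (f := X.hom) (g := X.hom) ?_ ?_
    · rw [Category.assoc, sqMap, pullback.lift_fst, h]
      change _ = ((lift f (𝟙 T) ≫ (X ◁ f')) ≫ fst X X).left
      rw [Category.assoc, whiskerLeft_fst, lift_fst]
    · rw [Category.assoc, sqMap, pullback.lift_snd, h']
      change _ = ((lift f (𝟙 T) ≫ (X ◁ f')) ≫ snd X X).left
      rw [Category.assoc, whiskerLeft_snd, lift_snd_assoc, Category.id_comp]
  calc (sqMap φ).base ((GIT.PsiY a φ hi).base ((G ◁ f').left.base w))
      = ((G ◁ f').left ≫ GIT.PsiY a φ hi ≫ sqMap φ).base w := rfl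
    _ = (X ◁ f').left.base ((GIT.psi a f').left.base w) := by rw [whisker_psiY_sqMap]; rfl
    _ = (X ◁ f').left.base ((lift f (𝟙 T)).left.base p) := by rw [hw]
    _ = (i ≫ sqMap φ).base p := by rw [e2]; rfl
    _ = (sqMap φ).base (i.base p) := rfl

include e hα h1 hφ in
theorem IsPair.mem_range_psiY_of_point (hcl : GIT.IsClosedAction a) {Ω : Type u} [Field Ω] [IsAlgClosed Ω]
    (i : Spec (CommRingCat.of Ω) ⟶ pullback φ.left φ.left) (p : Spec (CommRingCat.of Ω)) :
    i.base p ∈ Set.range (GIT.PsiY a φ hφ.inv).base := by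
  let T : Over (Spec (CommRingCat.of k)) := Over.mk ((i ≫ pullback.fst φ.left φ.left) ≫ X.hom)
  let f : T ⟶ X := Over.homMk (i ≫ pullback.fst φ.left φ.left) rfl
  let f' : T ⟶ X := Over.homMk (i ≫ pullback.snd φ.left φ.left) (by
    show (i ≫ pullback.snd φ.left φ.left) ≫ X.hom = (i ≫ pullback.fst φ.left φ.left) ≫ X.hom
    rw [Category.assoc, Category.assoc]
    congr 1
    rw [← Over.w φ, ← Category.assoc, ← pullback.condition, Category.assoc])
  have hf : f ≫ φ = f' ≫ φ := Over.OverMorphism.ext (by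
    show (i ≫ pullback.fst φ.left φ.left) ≫ φ.left = (i ≫ pullback.snd φ.left φ.left) ≫ φ.left
    rw [Category.assoc, pullback.condition, Category.assoc])
  exact mem_range_psiY (T := T) hφ.inv i f f' rfl rfl
    (hφ.mem_range_psi e hα h1 hcl (T := T) (Iso.refl _) f f' hf p)

omit [IsAffine X.left] [IsAffine Y.left] in
theorem exists_isAlgClosed_ext (K : Type u) [Field K] :
    ∃ (Ω : Type u) (_ : Field Ω) (_ : IsAlgClosed Ω), Nonempty (K →+* Ω) :=
  ⟨AlgebraicClosure K, inferInstance, inferInstance, ⟨algebraMap K (AlgebraicClosure K)⟩⟩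

omit [IsAffine X.left] [IsAffine Y.left] in
theorem exists_geomPoint (P : Scheme.{u}) (z : P) :
    ∃ (Ω : Type u) (_ : Field Ω) (_ : IsAlgClosed Ω) (i : Spec (CommRingCat.of Ω) ⟶ P)
      (p : Spec (CommRingCat.of Ω)), i.base p = z := by
  obtain ⟨Ω, _, _, ⟨g⟩⟩ := exists_isAlgClosed_ext (P.residueField z)
  refine ⟨Ω, inferInstance, inferInstance, Spec.map (CommRingCat.ofHom g) ≫ P.fromSpecResidueField z,
    IsLocalRing.closedPoint Ω, ?_⟩
  rw [Scheme.Hom.comp_apply]
  exact Scheme.fromSpecResidueField_apply _ _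

include e hα h1 hφ in
/-- The fibres of an affine quotient of a closed action are orbits. -/
theorem IsPair.surjective_psiY (hcl : GIT.IsClosedAction a) :
    Function.Surjective (GIT.PsiY a φ hφ.inv).base := fun z => by
  obtain ⟨Ω, _, _, i, p, hi⟩ := exists_geomPoint (pullback φ.left φ.left) z
  rw [← hi]
  exact hφ.mem_range_psiY_of_point e hα h1 hcl i p

include e hα h1 hφ in
/-- Affine quotients of closed actions are universal geometric quotients. -/
theorem IsPair.isUnivGeomQuot (hcl : GIT.IsClosedAction a) : GIT.IsUnivGeomQuot a φ := by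
  have ho := hφ.surjective_psiY e hα h1 hcl
  have hs := hφ.isUnivSubmersive e hα h1
  refine ⟨⟨hφ.inv, hφ.surjective e hα h1, ho, hs,
      (hφ.isLocPair_baseChange e hα h1 (IsPullback.id_horiz φ) (by simp) hφ.inv).sections⟩,
    fun X' Y' pr φ' g _ hpb a' heq hinv => ?_⟩
  have hl := hφ.isLocPair_baseChange e hα h1 hpb heq hinv
  exact ⟨hinv, hl.surjective e hα h1, GITQuot.orbit_baseChange hφ.inv ho hpb a' heq hinv,
    MorphismProperty.of_isPullback (P := MorphismProperty.universally (topologically @Topology.IsQuotientMap))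
      (GITQuot.isPullback_left hpb) hs, hl.sections⟩

end Groth.Agent.AffQuot66
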