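import Groth.Agent.HMAmple.Model
import Groth.Agent.ComodLib.Invariants
import Groth.Prelude.Def_GLinSh
import Groth.Prelude.Def_GLin

/-!
The coaction on the functions of an affine scheme with an action of an affine group.
-/

set_option autoImplicit false
set_option linter.unusedSectionVars false
set_option linter.style.haveILetI false
set_option backward.isDefEq.respectTransparency false
set_option backward.isDefEq.respectTransparency.types false

universe u

open CategoryTheory CategoryTheory.Limits MonoidalCategory CartesianMonoidalCategory MonObj GrpObj AlgebraicGeometry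
open TensorProduct WithConv
open Groth.Agent.GrpSchLib.Kunneth (Fn ev pullFn)
open Groth.Agent.GrpSchLib.AffineHopf (sp spMap)

namespace Groth.Agent.AffQuot66

open HMAmple

variable {k : Type u} [Field k] {G X : Over (Spec (CommRingCat.of k))} [GrpObj G] [IsAffine X.left]

section Points

variable (X) in
theorem isIso_toSpec : IsIso (HMSec.toSpec X (AlgHom.id k (Fn X))) := by
  haveI : IsIso (HMSec.toSpec X (AlgHom.id k (Fn X))).left := by
    show IsIso (X.left.toSpecΓ ≫ Spec.map (CommRingCat.ofHom (AlgHom.id k (Fn X)).toRingHom))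
    rw [show CommRingCat.ofHom (AlgHom.id k (Fn X)).toRingHom = 𝟙 _ from rfl, Spec.map_id]
    infer_instance
  haveI : IsIso ((Over.forget (Spec (CommRingCat.of k))).map (HMSec.toSpec X (AlgHom.id k (Fn X)))) :=
    inferInstanceAs (IsIso (HMSec.toSpec X (AlgHom.id k (Fn X))).left)
  exact isIso_of_reflects_iso _ (Over.forget _)

/-- The point with prescribed functions. -/
noncomputable def pointOf {S : Type u} [CommRing S] [Algebra k S] (χ : Fn X →ₐ[k] S) : VecGrp.pt k S ⟶ X :=
  haveI := isIso_toSpec X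
  VecGrp.ptMap χ ≫ inv (HMSec.toSpec X (AlgHom.id k (Fn X)))

theorem pullFn_pointOf {S : Type u} [CommRing S] [Algebra k S] (χ : Fn X →ₐ[k] S) : pullFn (pointOf χ) = χ := by
  haveI := isIso_toSpec X
  ext f
  rw [pointOf, GrpSchLib.Kunneth.pullFn_ptMap]
  refine congrArg χ ?_
  conv_lhs => rw [show f = ev (HMSec.toSpec X (AlgHom.id k (Fn X))) ((Scheme.ΓSpecIso (CommRingCat.of (Fn X))).inv f)
    from (HMSec.ev_toSpec (AlgHom.id k (Fn X)) f).symm]
  rw [GrpSchLib.Kunneth.pullFn_apply, GrpSchLib.Kunneth.ev_ev, IsIso.inv_hom_id, GrpSchLib.Kunneth.ev_id]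
  exact Iso.inv_hom_id_apply (Scheme.ΓSpecIso (CommRingCat.of (Fn X))) f

theorem point_ext {S : Type u} [CommRing S] [Algebra k S] {p q : VecGrp.pt k S ⟶ X} (h : pullFn p = pullFn q) :
    p = q := by
  refine Over.OverMorphism.ext (ext_of_isAffine ?_)
  ext f
  have := congrArg (Scheme.ΓSpecIso (CommRingCat.of S)).inv (AlgHom.congr_fun h f)
  rwa [GrpSchLib.Kunneth.pullFn_apply, GrpSchLib.Kunneth.pullFn_apply, Iso.hom_inv_id_apply,
    Iso.hom_inv_id_apply] at this

theorem comp_pointOf {S S' : Type u} [CommRing S] [Algebra k S] [CommRing S'] [Algebra k S'] (φ : S →ₐ[k] S')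
    (χ : Fn X →ₐ[k] S) : VecGrp.ptMap φ ≫ pointOf χ = pointOf (φ.comp χ) :=
  point_ext (AlgHom.ext fun f => by
    rw [GrpSchLib.Kunneth.pullFn_ptMap, pullFn_pointOf, pullFn_pointOf]
    rfl)

end Points

theorem ptMap_comp' {R S T : Type u} [CommRing R] [Algebra k R] [CommRing S] [Algebra k S] [CommRing T] [Algebra k T]
    (φ : R →ₐ[k] S) (ψ : S →ₐ[k] T) : VecGrp.ptMap ψ ≫ VecGrp.ptMap φ = VecGrp.ptMap (ψ.comp φ) := by
  refine Over.OverMorphism.ext ?_
  show Spec.map _ ≫ Spec.map _ = Spec.map _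
  rw [← Spec.map_comp]
  rfl

variable {A : Type u} [CommRing A] [HopfAlgebra k A] (e : Grp.mk (sp k A) ≅ Grp.mk G) (a : AlgGrp.Action G X)

/-- The universal vector-valued points of the group and of the scheme. -/
noncomputable def coactAlg : Fn X →ₐ[k] Fn X ⊗[k] A :=
  pullFn (lift (ptHomR e (Fn X ⊗[k] A) (toConv (Algebra.TensorProduct.includeRight : A →ₐ[k] Fn X ⊗[k] A)))⁻¹
    (pointOf (Algebra.TensorProduct.includeLeft : Fn X →ₐ[k] Fn X ⊗[k] A)) ≫ a.act)

/-- The defining property of the coaction. -/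
theorem lift_comp_coactAlg {S : Type u} [CommRing S] [Algebra k S] (χ : Fn X →ₐ[k] S) (φ : A →ₐ[k] S) :
    (Algebra.TensorProduct.lift χ φ fun _ _ => .all _ _).comp (coactAlg e a) =
      pullFn (lift (ptHomR e S (toConv φ))⁻¹ (pointOf χ) ≫ a.act) := by
  set L := (Algebra.TensorProduct.lift χ φ fun _ _ => .all _ _)
  ext f
  rw [AlgHom.comp_apply, coactAlg, ← GrpSchLib.Kunneth.pullFn_ptMap, ← Category.assoc, comp_lift, GrpObj.comp_inv,
    comp_pointOf, ptHomR_apply, ← Category.assoc]
  rw [show L.comp (Algebra.TensorProduct.includeLeft : Fn X →ₐ[k] Fn X ⊗[k] A) = χ from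
    AlgHom.ext fun r => by simp [L]]
  congr 4
  rw [ptMap_comp', ptHomR_apply]
  refine congrArg (fun m : A →ₐ[k] S => (VecGrp.ptMap m ≫ univA e)⁻¹) ?_
  exact AlgHom.ext fun r => by simp [L]

theorem coassoc_alg :
    ((Algebra.TensorProduct.assoc k k k (Fn X) A A).toAlgHom.comp
        ((Algebra.TensorProduct.map (coactAlg e a) (AlgHom.id k A)).comp (coactAlg e a))) =
      (Algebra.TensorProduct.map (AlgHom.id k (Fn X)) (Bialgebra.comulAlgHom k A)).comp (coactAlg e a) := by
  let S := Fn X ⊗[k] (A ⊗[k] A)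
  let χ : Fn X →ₐ[k] S := Algebra.TensorProduct.includeLeft
  let φ₁ : A →ₐ[k] S := (Algebra.TensorProduct.includeRight : A ⊗[k] A →ₐ[k] S).comp Algebra.TensorProduct.includeLeft
  let φ₂ : A →ₐ[k] S := (Algebra.TensorProduct.includeRight : A ⊗[k] A →ₐ[k] S).comp Algebra.TensorProduct.includeRight
  let g₁ := ptHomR e S (toConv φ₁)
  let g₂ := ptHomR e S (toConv φ₂)
  have h1 : (Algebra.TensorProduct.assoc k k k (Fn X) A A).toAlgHom.comp
      (Algebra.TensorProduct.map (coactAlg e a) (AlgHom.id k A)) =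
      Algebra.TensorProduct.lift (((Algebra.TensorProduct.lift χ φ₁ fun _ _ => .all _ _)).comp (coactAlg e a)) φ₂
        fun _ _ => .all _ _ := by
    have hz : (Algebra.TensorProduct.lift χ φ₁ fun _ _ => .all _ _) =
        (Algebra.TensorProduct.assoc k k k (Fn X) A A).toAlgHom.comp Algebra.TensorProduct.includeLeft := by
      refine Algebra.TensorProduct.ext (AlgHom.ext fun r => ?_) (AlgHom.ext fun b => ?_)
      · show χ r * φ₁ 1 = _
        rw [map_one, _root_.mul_one]
        rfl
      · show χ 1 * φ₁ b = _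
        rw [map_one, _root_.one_mul]
        rfl
    refine Algebra.TensorProduct.ext (AlgHom.ext fun r => ?_) (AlgHom.ext fun b => ?_)
    · show _ = (_ : S) * φ₂ 1
      rw [map_one, _root_.mul_one, hz]
      rfl
    · show (Algebra.TensorProduct.assoc k k k (Fn X) A A) (coactAlg e a 1 ⊗ₜ[k] b) =
        (Algebra.TensorProduct.lift χ φ₁ fun _ _ => .all _ _) (coactAlg e a 1) * φ₂ b
      rw [map_one, map_one, _root_.one_mul]
      rfl
  have h2 : (Algebra.TensorProduct.map (AlgHom.id k (Fn X)) (Bialgebra.comulAlgHom k A)) =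
      Algebra.TensorProduct.lift χ (toConv φ₁ * toConv φ₂).ofConv fun _ _ => .all _ _ := by
    refine Algebra.TensorProduct.ext (AlgHom.ext fun r => ?_) (AlgHom.ext fun b => ?_)
    · simp [χ, Algebra.TensorProduct.one_def]
    · simp only [AlgHom.coe_comp, AlgHom.coe_restrictScalars', Function.comp_apply,
        Algebra.TensorProduct.includeRight_apply, Algebra.TensorProduct.map_tmul, map_one,
        Algebra.TensorProduct.includeRight_apply]
      show (1 : Fn X) ⊗ₜ[k] Coalgebra.comul b = χ 1 * (toConv φ₁ * toConv φ₂) b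
      rw [map_one, _root_.one_mul, AlgHom.convMul_apply]
      induction Coalgebra.comul (R := k) b using TensorProduct.induction_on with
      | zero => simp
      | tmul p q =>
        show (1 : Fn X) ⊗ₜ[k] (p ⊗ₜ[k] q) = ((1 : Fn X) ⊗ₜ[k] (p ⊗ₜ[k] (1 : A))) * ((1 : Fn X) ⊗ₜ[k] ((1 : A) ⊗ₜ[k] q))
        simp only [Algebra.TensorProduct.tmul_mul_tmul, _root_.one_mul, _root_.mul_one]
      | add p q hp hq => simp only [TensorProduct.tmul_add, map_add, hp, hq]
  rw [← AlgHom.comp_assoc, h1, h2, lift_comp_coactAlg e a χ φ₁, lift_comp_coactAlg e a χ,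
    lift_comp_coactAlg e a _ φ₂]
  congr 1
  rw [show pointOf (pullFn (lift g₁⁻¹ (pointOf χ) ≫ a.act)) = lift g₁⁻¹ (pointOf χ) ≫ a.act from
    point_ext (pullFn_pointOf _), GrpSchLib.act_mul, toConv_ofConv, map_mul, _root_.mul_inv_rev]

theorem counit_alg :
    (Algebra.TensorProduct.lift (AlgHom.id k (Fn X)) ((Algebra.ofId k (Fn X)).comp (Bialgebra.counitAlgHom k A))
      fun _ _ => .all _ _).comp (coactAlg e a) = AlgHom.id k (Fn X) := by
  rw [lift_comp_coactAlg, show ptHomR e (Fn X) (toConv ((Algebra.ofId k (Fn X)).comp (Bialgebra.counitAlgHom k A))) = 1 from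
    map_one (ptHomR e (Fn X)), inv_one, GrpSchLib.act_one, pullFn_pointOf]

/-- The comodule structure on the functions. -/
@[reducible] noncomputable def comod : HopfRep.Comod k A (Fn X) where
  coact := (coactAlg e a).toLinearMap
  coassoc := by
    refine LinearMap.ext fun f => ?_
    have h := AlgHom.congr_fun (coassoc_alg e a) f
    exact h
  counit_comp := by
    refine LinearMap.ext fun f => ?_
    have h := congrArg (fun z => z ⊗ₜ[k] (1 : k)) (AlgHom.congr_fun (counit_alg e a) f)
    refine Eq.trans ?_ h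
    show (Coalgebra.counit (R := k) (A := A)).lTensor (Fn X) (coactAlg e a f) =
      (Algebra.TensorProduct.lift (AlgHom.id k (Fn X)) ((Algebra.ofId k (Fn X)).comp (Bialgebra.counitAlgHom k A))
        fun _ _ => .all _ _) (coactAlg e a f) ⊗ₜ[k] (1 : k)
    generalize coactAlg e a f = z
    induction z using TensorProduct.induction_on with
    | zero => simp
    | tmul r b =>
      simp only [LinearMap.lTensor_tmul, AlgHom.coe_comp, Function.comp_apply, Algebra.TensorProduct.lift_tmul,
        AlgHom.coe_id, id_eq, Algebra.ofId_apply, Bialgebra.counitAlgHom_apply]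
      rw [← Algebra.commutes, ← Algebra.smul_def, TensorProduct.smul_tmul, smul_eq_mul, _root_.mul_one]
    | add p q hp hq => rw [map_add, hp, hq, map_add, add_tmul]

theorem isCoactAlg : @GLin.IsCoactAlg k _ A _ _ (Fn X) _ _ (comod e a) :=
  letI := comod e a
  ⟨map_one (coactAlg e a), map_mul (coactAlg e a)⟩

end Groth.Agent.AffQuot66
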