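import Groth.Agent.AffQuot66.Pair
import Groth.Agent.GITQuot.Geom
import Groth.Agent.GITQuot.BaseChange

/-!
Base changes of an affine quotient by invariants along arbitrary maps.
-/

set_option autoImplicit false
set_option linter.unusedSectionVars false
set_option linter.style.haveILetI false
set_option backward.isDefEq.respectTransparency false
set_option backward.isDefEq.respectTransparency.types false

universe u

open CategoryTheory CategoryTheory.Limits MonoidalCategory CartesianMonoidalCategory MonObj GrpObj AlgebraicGeometry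
open TopologicalSpace Topology
open Groth.Agent.GrpSchLib.Kunneth (Fn ev)
open Groth.Agent.GrpSchLib.AffineHopf (sp spMap)

namespace Groth.Agent.AffQuot66

variable {k : Type u} [Field k] {G X Y : Over (Spec (CommRingCat.of k))} [GrpObj G]

section Restrict

variable (φ : X ⟶ Y) (U : Y.left.Opens)

/-- The preimage of an open of the target. -/
noncomputable abbrev preObj : Over (Spec (CommRingCat.of k)) := Over.mk ((φ.left ⁻¹ᵁ U).ι ≫ X.hom)

/-- The inclusion of the preimage. -/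
noncomputable abbrev preι : preObj φ U ⟶ X := Over.homMk (φ.left ⁻¹ᵁ U).ι rfl

/-- The restricted map. -/
noncomputable abbrev resMap : preObj φ U ⟶ Over.mk (U.ι ≫ Y.hom) :=
  Over.homMk (φ.left ∣_ U) (by
    show φ.left ∣_ U ≫ U.ι ≫ Y.hom = (φ.left ⁻¹ᵁ U).ι ≫ X.hom
    rw [morphismRestrict_ι_assoc, Over.w])

theorem isPullback_res :
    IsPullback (preι φ U) (resMap φ U) φ (Over.homMk U.ι rfl : Over.mk (U.ι ≫ Y.hom) ⟶ Y) :=
  IsPullback.of_map (Over.forget _) (Over.OverMorphism.ext (morphismRestrict_ι φ.left U).symm)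
    (isPullback_morphismRestrict φ.left U).flip

theorem bijective_appLE_ι {W : Scheme.{u}} (P : W.Opens) (h : ⊤ ≤ P.ι ⁻¹ᵁ P) :
    Function.Bijective (P.ι.appLE P ⊤ h).hom := by
  haveI : IsIso (P.ι.app P) := Scheme.Hom.isIso_app P.ι P (by rw [Scheme.Opens.opensRange_ι])
  have e : P.ι ⁻¹ᵁ P = ⊤ := top_le_iff.mp h
  haveI : IsIso (homOfLE h : (⊤ : P.toScheme.Opens) ⟶ P.ι ⁻¹ᵁ P).op := by
    haveI : IsIso (homOfLE h : (⊤ : P.toScheme.Opens) ⟶ P.ι ⁻¹ᵁ P) := ⟨⟨homOfLE e.le, rfl, rfl⟩⟩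
    infer_instance
  rw [Scheme.Hom.appLE]
  exact ConcreteCategory.bijective_of_isIso _

end Restrict

variable {A : Type u} [CommRing A] [HopfAlgebra k A]

/-- An invariant map which is a pair over every affine open of the target. -/
def IsLocPair (a : AlgGrp.Action G X) (φ : X ⟶ Y) : Prop :=
  GIT.IsInvariant a φ ∧ ∀ U : Y.left.Opens, IsAffineOpen U → IsAffine (preObj φ U).left ∧
    ∃ b : AlgGrp.Action G (preObj φ U), b.act ≫ preι φ U = (G ◁ preι φ U) ≫ a.act ∧ IsPair b (resMap φ U)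

variable (e : Grp.mk (sp k A) ≅ Grp.mk G) {α : A →ₗ[k] k} (hα : ComodLib.IsIntegral k α) (h1 : α 1 = 1)
  {a : AlgGrp.Action G X} {φ : X ⟶ Y}

include e hα h1 in
/-- Every base change of an affine pair is a pair over every affine open. -/
theorem IsPair.isLocPair_baseChange [IsAffine X.left] [IsAffine Y.left] (hφ : IsPair a φ)
    {X' Y' : Over (Spec (CommRingCat.of k))} {pr : X' ⟶ X} {φ' : X' ⟶ Y'} {g : Y' ⟶ Y}
    {a' : AlgGrp.Action G X'} (hpb : IsPullback pr φ' φ g) (heq : a'.act ≫ pr = (G ◁ pr) ≫ a.act)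
    (hinv : GIT.IsInvariant a' φ') : IsLocPair a' φ' := by
  refine ⟨hinv, fun U hU => ?_⟩
  have hsq := (isPullback_res φ' U).paste_horiz hpb
  obtain ⟨b, hb, hbi⟩ := GITQuot.exists_action hinv (isPullback_res φ' U)
  haveI : IsAffine (Over.mk (U.ι ≫ Y'.hom) : Over (Spec (CommRingCat.of k))).left := hU
  haveI : IsAffineHom ((Over.forget (Spec (CommRingCat.of k))).map φ) := inferInstanceAs (IsAffineHom φ.left)
  haveI : IsAffine (preObj φ' U).left :=
    IsAffine.of_isPullback (f := ((Over.homMk U.ι rfl : Over.mk (U.ι ≫ Y'.hom) ⟶ Y') ≫ g).left)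
      (hsq.map (Over.forget _)).flip
  refine ⟨inferInstance, b, hb, hφ.baseChange e hα h1 hsq ?_ hbi⟩
  rw [← Category.assoc, hb, Category.assoc, heq, ← MonoidalCategory.whiskerLeft_comp_assoc]

variable (h : IsLocPair a φ)

include h in
theorem exists_affine_pair (y : Y.left) :
    ∃ (U : Y.left.Opens) (_ : IsAffineOpen U) (_ : IsAffine (preObj φ U).left) (b : AlgGrp.Action G (preObj φ U)),
      y ∈ U ∧ b.act ≫ preι φ U = (G ◁ preι φ U) ≫ a.act ∧ IsPair b (resMap φ U) := by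
  obtain ⟨U, hU, hyU, -⟩ := exists_isAffineOpen_mem_and_subset (x := y) (U := ⊤) trivial
  obtain ⟨ha, b, hb, hp⟩ := h.2 U hU
  exact ⟨U, hU, ha, b, hyU, hb, hp⟩

theorem resMap_base (φ : X ⟶ Y) (U : Y.left.Opens) (x : (φ.left ⁻¹ᵁ U : X.left.Opens)) :
    ((resMap φ U).left.base x).1 = φ.left.base x.1 :=
  morphismRestrict_base_coe φ.left U x

include e hα h1 h in
theorem IsLocPair.surjective : Function.Surjective φ.left.base := fun y => by
  obtain ⟨U, hU, ha, b, hyU, -, hp⟩ := exists_affine_pair h y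
  haveI : IsAffine (Over.mk (U.ι ≫ Y.hom) : Over (Spec (CommRingCat.of k))).left := hU
  obtain ⟨x, hx⟩ := hp.surjective e hα h1 ⟨y, hyU⟩
  exact ⟨x.1, (resMap_base φ U x).symm.trans (congrArg Subtype.val hx)⟩

theorem preimage_invariant {U : Y.left.Opens} {b : AlgGrp.Action G (preObj φ U)}
    (hb : b.act ≫ preι φ U = (G ◁ preι φ U) ≫ a.act) {Z : Set X.left}
    (hi : a.act.left.base '' ((snd G X).left.base ⁻¹' Z) ⊆ Z) :
    b.act.left.base '' ((snd G (preObj φ U)).left.base ⁻¹' ((preι φ U).left.base ⁻¹' Z)) ⊆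
      (preι φ U).left.base ⁻¹' Z := by
  rintro _ ⟨w, hw, rfl⟩
  refine hi ⟨(G ◁ preι φ U).left.base w, ?_, ?_⟩
  · show ((G ◁ preι φ U) ≫ snd G X).left.base w ∈ Z
    rw [whiskerLeft_snd]
    exact hw
  · show ((G ◁ preι φ U) ≫ a.act).left.base w = (b.act ≫ preι φ U).left.base w
    rw [hb]

include e hα h1 h in
theorem IsLocPair.isClosed_image {Z : Set X.left} (hZ : IsClosed Z)
    (hi : a.act.left.base '' ((snd G X).left.base ⁻¹' Z) ⊆ Z) : IsClosed (φ.left.base '' Z) := by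
  rw [TopologicalSpace.IsOpenCover.isClosed_iff_coe_preimage (iSup_affineOpens_eq_top Y.left)]
  rintro ⟨U, hU⟩
  obtain ⟨ha, b, hb, hp⟩ := h.2 U hU
  haveI := ha
  haveI : IsAffine (Over.mk (U.ι ≫ Y.hom) : Over (Spec (CommRingCat.of k))).left := hU
  have hc := hp.isClosed_image e hα h1 (hZ.preimage (preι φ U).left.continuous) (preimage_invariant hb hi)
  refine Eq.mpr (congrArg IsClosed (α := Set U.toScheme) (a₂ := (resMap φ U).left.base '' ((preι φ U).left.base ⁻¹' Z))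
    (Set.ext fun y => ⟨?_, ?_⟩)) hc
  · rintro ⟨x, hx, hxy⟩
    exact ⟨⟨x, show φ.left.base x ∈ U from hxy ▸ y.2⟩, hx, Subtype.ext ((resMap_base φ U _).trans hxy)⟩
  · rintro ⟨x, hx, hxy⟩
    exact ⟨x.1, hx, (resMap_base φ U x).symm.trans (congrArg Subtype.val hxy)⟩

include e hα h1 h in
theorem IsLocPair.isQuotientMap : IsQuotientMap φ.left.base := by
  refine isQuotientMap_iff_isClosed.mpr ⟨h.surjective e hα h1, fun C => ⟨fun hC => hC.preimage φ.left.continuous, fun hC => ?_⟩⟩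
  have hc := h.isClosed_image e hα h1 hC (by
    rintro _ ⟨w, hw, rfl⟩
    show φ.left.base (a.act.left.base w) ∈ C
    rw [← Scheme.Hom.comp_apply, h.1.left, Scheme.Hom.comp_apply]
    exact hw)
  rwa [Set.image_preimage_eq _ (h.surjective e hα h1)] at hc

omit h in
theorem app_of_pair {U : Y.left.Opens} [IsAffine (preObj φ U).left] {b : AlgGrp.Action G (preObj φ U)}
    (hb : b.act ≫ preι φ U = (G ◁ preι φ U) ≫ a.act) (hp : IsPair b (resMap φ U)) :
    Function.Injective (φ.left.app U) ∧ ∀ f, GIT.IsInvSection a φ U f → ∃ c, φ.left.app U c = f := by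
  have hY : ⊤ ≤ U.ι ⁻¹ᵁ U := fun z _ => z.2
  set P := φ.left ⁻¹ᵁ U with hP
  have hX : ⊤ ≤ P.ι ⁻¹ᵁ P := fun z _ => z.2
  have key : ∀ c, ev (resMap φ U) (U.ι.appLE U ⊤ hY c) = P.ι.appLE P ⊤ hX (φ.left.app U c) := by
    intro c
    show (φ.left ∣_ U).appTop (U.ι.appLE U ⊤ hY c) = _
    rw [← CommRingCat.comp_apply, ← CommRingCat.comp_apply, Scheme.Hom.appTop, Scheme.Hom.app_eq_appLE,
      Scheme.Hom.app_eq_appLE, Scheme.Hom.appLE_comp_appLE, Scheme.Hom.appLE_comp_appLE]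
    simp only [morphismRestrict_ι]
    rfl
  refine ⟨fun c c' hcc => (bijective_appLE_ι U hY).1 (hp.inj ?_), fun f hf => ?_⟩
  · rw [key, key, hcc]
  · let fU : Fn (preObj φ U) := P.ι.appLE P ⊤ hX f
    have hinv : GLinSh.IsInvFn b fU := by
      let W := a.act.left ⁻¹ᵁ P ⊓ (snd G X).left ⁻¹ᵁ P
      have hW : ⊤ ≤ (G ◁ preι φ U).left ⁻¹ᵁ W := fun z _ => ⟨by
        show ((G ◁ preι φ U) ≫ a.act).left.base z ∈ P
        rw [← hb]
        exact ((b.act.left.base z)).2, by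
        show ((G ◁ preι φ U) ≫ snd G X).left.base z ∈ P
        rw [whiskerLeft_snd]
        exact (((snd G (preObj φ U)).left.base z)).2⟩
      have key' : ∀ (m : G ⊗ X ⟶ X) (m' : G ⊗ preObj φ U ⟶ preObj φ U) (hm : W ≤ m.left ⁻¹ᵁ P),
          (G ◁ preι φ U) ≫ m = m' ≫ preι φ U →
            (G ◁ preι φ U).left.appLE W ⊤ hW (m.left.appLE P W hm f) = ev m' fU := by
        intro m m' hm e
        show _ = m'.left.appTop ((preι φ U).left.appLE P ⊤ hX f)
        rw [← CommRingCat.comp_apply, ← CommRingCat.comp_apply, Scheme.Hom.appTop, Scheme.Hom.app_eq_appLE,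
          Scheme.Hom.appLE_comp_appLE, Scheme.Hom.appLE_comp_appLE]
        have e' : (G ◁ preι φ U).left ≫ m.left = m'.left ≫ (preι φ U).left := congrArg (fun z => z.left) e
        simp only [e']
        rfl
      show ev b.act fU = ev (snd G (preObj φ U)) fU
      rw [← key' a.act b.act inf_le_left hb.symm, ← key' (snd G X) (snd G _) inf_le_right (whiskerLeft_snd _ _)]
      exact congrArg _ hf
    obtain ⟨c, hc⟩ := hp.range fU hinv
    obtain ⟨c₀, rfl⟩ := (bijective_appLE_ι U hY).2 c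
    exact ⟨c₀, (bijective_appLE_ι P hX).1 ((key c₀).symm.trans hc)⟩

include h in
theorem IsLocPair.app_affine (U : Y.left.Opens) (hU : IsAffineOpen U) :
    Function.Injective (φ.left.app U) ∧ ∀ f, GIT.IsInvSection a φ U f → ∃ c, φ.left.app U c = f := by
  obtain ⟨ha, b, hb, hp⟩ := h.2 U hU
  haveI := ha
  exact app_of_pair hb hp

theorem isInvSection_res {U W : Y.left.Opens} (hWU : W ≤ U) {f : Γ(X.left, φ.left ⁻¹ᵁ U)}
    (hf : GIT.IsInvSection a φ U f) :
    GIT.IsInvSection a φ W (X.left.presheaf.map (homOfLE (φ.left.preimage_mono hWU)).op f) := by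
  have hle : a.act.left ⁻¹ᵁ (φ.left ⁻¹ᵁ W) ⊓ (snd G X).left ⁻¹ᵁ (φ.left ⁻¹ᵁ W) ≤
      a.act.left ⁻¹ᵁ (φ.left ⁻¹ᵁ U) ⊓ (snd G X).left ⁻¹ᵁ (φ.left ⁻¹ᵁ U) :=
    inf_le_inf (a.act.left.preimage_mono (φ.left.preimage_mono hWU))
      ((snd G X).left.preimage_mono (φ.left.preimage_mono hWU))
  have h' := congrArg ((G ⊗ X).left.presheaf.map (homOfLE hle).op) hf
  rw [← CommRingCat.comp_apply, ← CommRingCat.comp_apply, Scheme.Hom.appLE_map, Scheme.Hom.appLE_map] at h'
  show a.act.left.appLE _ _ _ _ = (snd G X).left.appLE _ _ _ _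
  rw [← CommRingCat.comp_apply, ← CommRingCat.comp_apply, Scheme.Hom.map_appLE, Scheme.Hom.map_appLE]
  exact h'

omit h in
/-- Being the invariant functions is local on a basis. -/
theorem sections_of_basis (hi : GIT.IsInvariant a φ) (P : Y.left.Opens → Prop)
    (hP : ∀ (y : Y.left) (O : Y.left.Opens), y ∈ O → ∃ T, P T ∧ y ∈ T ∧ T ≤ O)
    (happ : ∀ T, P T → Function.Injective (φ.left.app T) ∧ ∀ f, GIT.IsInvSection a φ T f → ∃ c, φ.left.app T c = f)
    (U : Y.left.Opens) :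
    Function.Injective (φ.left.app U) ∧ Set.range (φ.left.app U) = {f | GIT.IsInvSection a φ U f} := by
  have hnat : ∀ {U W : Y.left.Opens} (hWU : W ≤ U) (c : Γ(Y.left, U)),
      φ.left.app W (Y.left.presheaf.map (homOfLE hWU).op c) =
        X.left.presheaf.map (homOfLE (φ.left.preimage_mono hWU)).op (φ.left.app U c) := fun hWU c =>
    ConcreteCategory.congr_hom (φ.left.naturality (homOfLE hWU).op) c
  have hinj : ∀ U : Y.left.Opens, Function.Injective (φ.left.app U) := by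
    intro U c c' hcc
    refine Y.left.sheaf.eq_of_locally_eq' (fun T : {T : {T : Y.left.Opens // P T} // T.1 ≤ U} => T.1.1) U
      (fun T => homOfLE T.2) (fun y hy => ?_) c c' fun T => (happ T.1.1 T.1.2).1 ?_
    · obtain ⟨T, hT, hyT, hTU⟩ := hP y U hy
      exact Opens.mem_iSup.mpr ⟨⟨⟨T, hT⟩, hTU⟩, hyT⟩
    · exact (hnat T.2 c).trans ((congrArg _ hcc).trans (hnat T.2 c').symm)
  refine ⟨hinj U, Set.Subset.antisymm ?_ fun f hf => ?_⟩
  · rintro _ ⟨c, rfl⟩
    have h' := GITQuot.isInvSection_appLE (φ := φ) φ hi U U (le_refl (φ.left ⁻¹ᵁ U)) c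
    rwa [Scheme.Hom.appLE_eq_app] at h'
  · let I := {T : {T : Y.left.Opens // P T} // T.1 ≤ U}
    choose c hc using fun T : I => (happ T.1.1 T.1.2).2 _ (isInvSection_res T.2 hf)
    have hcompat : TopCat.Presheaf.IsCompatible Y.left.presheaf (fun T : I => T.1.1) c := by
      intro i j
      refine hinj _ ?_
      show φ.left.app _ (Y.left.presheaf.map (homOfLE inf_le_left).op (c i)) =
        φ.left.app _ (Y.left.presheaf.map (homOfLE inf_le_right).op (c j))
      rw [hnat inf_le_left, hnat inf_le_right, hc, hc, ← CommRingCat.comp_apply, ← CommRingCat.comp_apply,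
        ← Functor.map_comp, ← Functor.map_comp]
      rfl
    obtain ⟨C, hC, -⟩ := Y.left.sheaf.existsUnique_gluing' (fun T : I => T.1.1) U (fun T => homOfLE T.2)
      (fun y hy => by
        obtain ⟨T, hT, hyT, hTU⟩ := hP y U hy
        exact Opens.mem_iSup.mpr ⟨⟨⟨T, hT⟩, hTU⟩, hyT⟩) c hcompat
    refine ⟨C, X.left.sheaf.eq_of_locally_eq' (fun T : I => φ.left ⁻¹ᵁ T.1.1) (φ.left ⁻¹ᵁ U)
      (fun T => homOfLE (φ.left.preimage_mono T.2)) (fun x hx => ?_) _ _ fun T => ?_⟩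
    · obtain ⟨T, hT, hxT, hTU⟩ := hP (φ.left.base x) U hx
      exact Opens.mem_iSup.mpr ⟨⟨⟨T, hT⟩, hTU⟩, hxT⟩
    · exact (hnat T.2 C).symm.trans ((congrArg (φ.left.app T.1.1) (hC T)).trans (hc T))

include h in
theorem IsLocPair.sections (U : Y.left.Opens) :
    Function.Injective (φ.left.app U) ∧ Set.range (φ.left.app U) = {f | GIT.IsInvSection a φ U f} :=
  sections_of_basis h.1 IsAffineOpen
    (fun y O hy => let ⟨T, hT, hyT, hTO⟩ := exists_isAffineOpen_mem_and_subset (x := y) (U := O) hy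
      ⟨T, hT, hyT, hTO⟩) h.app_affine U

include e hα h1 h in
theorem IsLocPair.isCatQuot : GIT.IsCatQuot a φ := by
  refine GITQuot.isCatQuot_of_cover h.1 (h.surjective e hα h1) h.sections fun J W hW hcov y => ?_
  obtain ⟨U, hU, ha, b, hyU, hb, hp⟩ := exists_affine_pair h y
  haveI : IsAffine (Over.mk (U.ι ≫ Y.hom) : Over (Spec (CommRingCat.of k))).left := hU
  have hi : ∀ i, a.act.left.base '' ((snd G X).left.base ⁻¹' (W i : Set X.left)ᶜ) ⊆ (W i : Set X.left)ᶜ := by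
    rintro i _ ⟨w, hw, rfl⟩ hwi
    exact hw ((congrArg (fun O : (G ⊗ X).left.Opens => (O : Set (G ⊗ X).left)) (hW i)).le hwi)
  obtain ⟨i, hyi⟩ := hp.exists_notMem_image e hα h1 (fun i => (preι φ U).left.base ⁻¹' (W i : Set X.left)ᶜ)
    (fun i => ⟨(W i).isOpen.isClosed_compl.preimage (preι φ U).left.continuous, preimage_invariant hb (hi i)⟩)
    (fun x => (hcov x.1).imp fun i hxi hx => hx hxi) ⟨y, hyU⟩
  let C := (resMap φ U).left.base '' ((preι φ U).left.base ⁻¹' (W i : Set X.left)ᶜ)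
  have hC : IsClosed C := hp.isClosed_image e hα h1 ((W i).isOpen.isClosed_compl.preimage (preι φ U).left.continuous)
    (preimage_invariant hb (hi i))
  refine ⟨i, U.ι ''ᵁ ⟨Cᶜ, hC.isOpen_compl⟩, ⟨⟨y, hyU⟩, hyi, rfl⟩, fun x hx => ?_⟩
  obtain ⟨z, hz, hzx⟩ := hx
  by_contra hxi
  refine hz ⟨⟨x, show φ.left.base x ∈ U from hzx ▸ z.2⟩, hxi, Subtype.ext ?_⟩
  exact (resMap_base φ U _).trans hzx.symm

include e hα h1 in
theorem IsPair.isUnivCatQuot [IsAffine X.left] [IsAffine Y.left] (hφ : IsPair a φ) : GIT.IsUnivCatQuot a φ :=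
  ⟨(hφ.isLocPair_baseChange e hα h1 (IsPullback.id_horiz φ) (by simp) hφ.inv).isCatQuot e hα h1,
    fun _ _ _ _ _ _ hpb _ heq hinv => (hφ.isLocPair_baseChange e hα h1 hpb heq hinv).isCatQuot e hα h1⟩

include e hα h1 in
theorem IsPair.isUnivSubmersive [IsAffine X.left] [IsAffine Y.left] (hφ : IsPair a φ) :
    GIT.IsUnivSubmersive φ.left := by
  intro X₁ Y₁ i₁ i₂ f' hsq
  let Y' : Over (Spec (CommRingCat.of k)) := Over.mk (i₂ ≫ Y.hom)
  let X' : Over (Spec (CommRingCat.of k)) := Over.mk (f' ≫ Y'.hom)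
  let φ' : X' ⟶ Y' := Over.homMk f' rfl
  let g : Y' ⟶ Y := Over.homMk i₂ rfl
  let pr : X' ⟶ X := Over.homMk i₁ (by
    show i₁ ≫ X.hom = f' ≫ i₂ ≫ Y.hom
    rw [← Category.assoc, hsq.w, Category.assoc, Over.w])
  have hpb : IsPullback pr φ' φ g := IsPullback.of_map (Over.forget _) (Over.OverMorphism.ext hsq.w.symm) hsq.flip
  obtain ⟨a', heq, hinv⟩ := GITQuot.exists_action hφ.inv hpb
  exact (hφ.isLocPair_baseChange e hα h1 hpb heq hinv).isQuotientMap e hα h1

end Groth.Agent.AffQuot66
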