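import Groth.Agent.AffQuot66.Coact
import Groth.Agent.GrpSchLib.Action
import Mathlib.RingTheory.Flat.Basic

/-!
Invariant functions as fixed vectors, and stable ideals of invariant closed sets.
-/

set_option autoImplicit false
set_option linter.unusedSectionVars false
set_option linter.style.haveILetI false
set_option backward.isDefEq.respectTransparency false
set_option backward.isDefEq.respectTransparency.types false

universe u

open CategoryTheory CategoryTheory.Limits MonoidalCategory CartesianMonoidalCategory MonObj GrpObj AlgebraicGeometry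
open TensorProduct WithConv TopologicalSpace
open Groth.Agent.GrpSchLib.Kunneth (Fn ev pullFn)
open Groth.Agent.GrpSchLib.AffineHopf (sp spMap)

namespace Groth.Agent.AffQuot66

open HMAmple

variable {k : Type u} [Field k] {G X : Over (Spec (CommRingCat.of k))} [GrpObj G] [IsAffine X.left]
  {A : Type u} [CommRing A] [HopfAlgebra k A] (e : Grp.mk (sp k A) ≅ Grp.mk G) (a : AlgGrp.Action G X)

include e in
theorem ptHomR_surjective (S : Type u) [CommRing S] [Algebra k S] : Function.Surjective (ptHomR e S) := fun g => by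
  obtain ⟨φ, hφ⟩ := GrpSchLib.AffineHopf.exists_eq_spMap (g ≫ e.inv.hom.hom : sp k S ⟶ sp k A)
  refine ⟨toConv φ, ?_⟩
  show spMap φ ≫ e.hom.hom.hom = g
  rw [← hφ, Category.assoc]
  exact (congrArg (g ≫ ·) (congrArg (fun m => m.hom.hom) e.inv_hom_id)).trans (Category.comp_id g)

include e in
theorem isAffineHom_of_model : IsAffineHom G.hom := by
  haveI : IsAffineHom (sp k A).hom := inferInstanceAs (IsAffineHom (Spec.map _))
  haveI : IsIso e.inv.hom.hom := ⟨e.hom.hom.hom, congrArg (fun m => m.hom.hom) e.inv_hom_id,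
    congrArg (fun m => m.hom.hom) e.hom_inv_id⟩
  haveI : IsIso e.inv.hom.hom.left := inferInstanceAs (IsIso ((Over.forget _).map e.inv.hom.hom))
  rw [← Over.w e.inv.hom.hom]
  infer_instance

include e in
/-- Fixed vectors of the coaction are the invariant functions. -/
theorem coactAlg_eq_iff (f : Fn X) : coactAlg e a f = f ⊗ₜ[k] (1 : A) ↔ GLinSh.IsInvFn a f := by
  constructor
  · intro h
    haveI := isAffineHom_of_model e
    haveI : IsAffineHom (snd G X).left :=
      (MorphismProperty.pullback_snd G.hom X.hom (inferInstanceAs (IsAffineHom G.hom)) :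
        IsAffineHom (pullback.snd G.hom X.hom))
    haveI : IsAffine (G ⊗ X).left := isAffine_of_isAffineHom (snd G X).left
    haveI := isIso_toSpec (G ⊗ X)
    let w : VecGrp.pt k (Fn (G ⊗ X)) ⟶ G ⊗ X := pointOf (AlgHom.id k (Fn (G ⊗ X)))
    have hw : ∀ f, pullFn w f = f := fun f => AlgHom.congr_fun (pullFn_pointOf (AlgHom.id k (Fn (G ⊗ X)))) f
    obtain ⟨ψ, hψ⟩ := ptHomR_surjective e _ (w ≫ fst G X)⁻¹
    let χ : Fn X →ₐ[k] Fn (G ⊗ X) := ev (snd G X)
    have hx : pointOf χ = w ≫ snd G X := point_ext (AlgHom.ext fun f => by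
      rw [pullFn_pointOf, GrpSchLib.Kunneth.pullFn_apply, ← GrpSchLib.Kunneth.ev_ev,
        ← GrpSchLib.Kunneth.pullFn_apply, hw])
    have h1 := congrArg (Algebra.TensorProduct.lift χ ψ.ofConv fun _ _ => .all _ _) h
    rw [← AlgHom.comp_apply, lift_comp_coactAlg, Algebra.TensorProduct.lift_tmul, map_one, _root_.mul_one,
      toConv_ofConv, hψ, _root_.inv_inv, hx, ← comp_lift, lift_fst_snd, Category.comp_id,
      GrpSchLib.Kunneth.pullFn_apply, ← GrpSchLib.Kunneth.ev_ev, ← GrpSchLib.Kunneth.pullFn_apply, hw] at h1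
    exact h1
  · intro h
    have h' : ev a.act f = ev (snd G X) f := h
    rw [coactAlg, GrpSchLib.Kunneth.pullFn_apply, ← GrpSchLib.Kunneth.ev_ev, h', GrpSchLib.Kunneth.ev_ev, lift_snd,
      ← GrpSchLib.Kunneth.pullFn_apply, pullFn_pointOf]
    rfl

/-- The functions vanishing at every point of a set. -/
def vanishingFn (Z : Set X.left) : Ideal (Fn X) where
  carrier := {s | ∀ z ∈ Z, z ∉ X.left.basicOpen s}
  add_mem' {s t} hs ht z hz h := by
    rcases Scheme.basicOpen_add_le _ s t h with h | h
    · exact hs z hz h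
    · exact ht z hz h
  zero_mem' z _ h := by rw [Scheme.basicOpen_zero] at h; exact h
  smul_mem' c {s} hs z hz h := by rw [smul_eq_mul, Scheme.basicOpen_mul] at h; exact hs z hz h.2

include e in
/-- An invariant closed set is cut out by a stable ideal. -/
theorem exists_stable_ideal {Z : Set X.left} (hZ : IsClosed Z)
    (hi : a.act.left.base '' ((snd G X).left.base ⁻¹' Z) ⊆ Z) :
    ∃ J : Ideal (Fn X), @HopfRep.IsSubcomod k A _ _ _ _ (Fn X) _ _ (comod e a) (J.restrictScalars k) ∧
      ∀ x : X.left, x ∈ Z ↔ ∀ s ∈ J, x ∉ X.left.basicOpen s := by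
  letI := comod e a
  let I := vanishingFn Z
  let q : Fn X →ₐ[k] Fn X ⧸ I := Ideal.Quotient.mkₐ k I
  let δ : Fn X →ₐ[k] (Fn X ⧸ I) ⊗[k] A := (Algebra.TensorProduct.map q (AlgHom.id k A)).comp (coactAlg e a)
  have hJI : RingHom.ker δ ≤ I := fun s hs => by
    rw [RingHom.mem_ker] at hs
    refine Ideal.Quotient.eq_zero_iff_mem.mp ?_
    let ε : A →ₐ[k] Fn X ⧸ I := (Algebra.ofId k (Fn X ⧸ I)).comp (Bialgebra.counitAlgHom k A)
    let L := Algebra.TensorProduct.lift (AlgHom.id k (Fn X ⧸ I)) ε fun _ _ => .all _ _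
    have h1 : L.comp (Algebra.TensorProduct.map q (AlgHom.id k A)) =
        q.comp (Algebra.TensorProduct.lift (AlgHom.id k (Fn X)) ((Algebra.ofId k (Fn X)).comp (Bialgebra.counitAlgHom k A))
          fun _ _ => .all _ _) := by
      refine Algebra.TensorProduct.ext (AlgHom.ext fun r => ?_) (AlgHom.ext fun b => ?_)
      · simp [L, ε]
      · simp [L, ε]
    have h2 : q s = L (δ s) := by
      show q s = (L.comp (Algebra.TensorProduct.map q (AlgHom.id k A))) (coactAlg e a s)
      rw [h1, AlgHom.comp_apply, ← AlgHom.comp_apply _ (coactAlg e a), counit_alg]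
      rfl
    show q s = 0
    rw [h2, hs, map_zero]
  refine ⟨RingHom.ker δ, fun v hv => ?_, fun x => ⟨fun hx s hs => hJI hs x hx, fun hx => ?_⟩⟩
  · let d : Fn X →ₗ[k] (Fn X ⧸ I) ⊗[k] A := δ.toLinearMap
    have hker : (RingHom.ker δ).restrictScalars k = LinearMap.ker d := rfl
    rw [hker] at hv ⊢
    have hex : Function.Exact ((LinearMap.ker d).subtype.rTensor A) (d.rTensor A) :=
      Module.Flat.rTensor_exact A d.exact_subtype_ker_map
    refine (hex _).mp ?_
    have h3 : d.rTensor A (coactAlg e a v) =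
        (TensorProduct.assoc k (Fn X ⧸ I) A A).symm
          ((Coalgebra.comul (R := k) (A := A)).lTensor _ (d v)) := by
      have hco := AlgHom.congr_fun (coassoc_alg e a) v
      have hnat : ∀ z : (Fn X ⊗[k] A) ⊗[k] A,
          TensorProduct.assoc k (Fn X ⧸ I) A A (q.toLinearMap.rTensor A |>.rTensor A <| z) =
            q.toLinearMap.rTensor (A ⊗[k] A) (TensorProduct.assoc k (Fn X) A A z) := fun z => by
        induction z using TensorProduct.induction_on with
        | zero => simp
        | tmul p b =>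
          induction p using TensorProduct.induction_on with
          | zero => simp
          | tmul r c => simp
          | add p p' hp hp' => simp only [add_tmul, map_add, hp, hp']
        | add p p' hp hp' => simp only [map_add, hp, hp']
      rw [LinearEquiv.eq_symm_apply]
      have e1 : d.rTensor A (coactAlg e a v) =
          (q.toLinearMap.rTensor A).rTensor A ((coactAlg e a).toLinearMap.rTensor A (coactAlg e a v)) := by
        rw [← LinearMap.comp_apply, ← LinearMap.rTensor_comp]
        rfl
      rw [e1, hnat]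
      refine (congrArg (q.toLinearMap.rTensor (A ⊗[k] A)) hco).trans ?_
      show q.toLinearMap.rTensor (A ⊗[k] A) ((Coalgebra.comul (R := k) (A := A)).lTensor _ (coactAlg e a v)) =
        (Coalgebra.comul (R := k) (A := A)).lTensor _ (q.toLinearMap.rTensor A (coactAlg e a v))
      rw [← LinearMap.comp_apply, ← LinearMap.comp_apply, LinearMap.rTensor_comp_lTensor,
        LinearMap.lTensor_comp_rTensor]
    show d.rTensor A (coactAlg e a v) = 0
    rw [h3, LinearMap.mem_ker.mp hv, map_zero, map_zero]
  · by_contra hxZ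
    let S := (Fn X ⧸ I) ⊗[k] A
    let χ : Fn X →ₐ[k] S := (Algebra.TensorProduct.includeLeft : (Fn X ⧸ I) →ₐ[k] S).comp q
    let g := ptHomR e S (toConv (Algebra.TensorProduct.includeRight : A →ₐ[k] S))
    let p : VecGrp.pt k S ⟶ X := lift g⁻¹ (pointOf χ) ≫ a.act
    have hδ : ∀ t, δ t = pullFn p t := fun t => by
      rw [← lift_comp_coactAlg e a χ, AlgHom.comp_apply]
      show (Algebra.TensorProduct.map q (AlgHom.id k A)) _ = _
      refine AlgHom.congr_fun (?_ : Algebra.TensorProduct.map q (AlgHom.id k A) =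
        Algebra.TensorProduct.lift χ (Algebra.TensorProduct.includeRight : A →ₐ[k] S) fun _ _ => .all _ _) _
      refine Algebra.TensorProduct.ext (AlgHom.ext fun r => ?_) (AlgHom.ext fun b => ?_)
      · simp [χ, S]
      · simp [χ, S]
    have hbase : ∀ w, (pointOf χ).left.base w ∈ Z := fun w => by
      by_contra hw
      obtain ⟨_, ⟨_, ⟨t, rfl⟩, rfl⟩, h1, h2⟩ := (isBasis_basicOpen X.left).exists_subset_of_mem_open hw hZ.isOpen_compl
      have htI : t ∈ I := fun z hz hzt => h2 hzt hz
      have h3 : w ∈ (VecGrp.pt k S).left.basicOpen (ev (pointOf χ) t) := by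
        show w ∈ (VecGrp.pt k S).left.basicOpen ((pointOf χ).left.appTop t)
        rw [← Scheme.preimage_basicOpen_top]
        exact h1
      have h4 : ev (pointOf χ) t = 0 := by
        have h5 : (Scheme.ΓSpecIso (CommRingCat.of S)).inv (pullFn (pointOf χ) t) = ev (pointOf χ) t :=
          Iso.hom_inv_id_apply (Scheme.ΓSpecIso (CommRingCat.of S)) _
        rw [← h5, pullFn_pointOf, show χ t = (Algebra.TensorProduct.includeLeft : (Fn X ⧸ I) →ₐ[k] S) (q t) from rfl,
          show q t = 0 from Ideal.Quotient.eq_zero_iff_mem.mpr htI, map_zero, map_zero]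
      rw [h4, Scheme.basicOpen_zero] at h3
      exact h3
    have hrange : ∀ w, p.left.base w ∈ Z := fun w => hi ⟨(lift g⁻¹ (pointOf χ)).left.base w, by
      show (lift g⁻¹ (pointOf χ) ≫ snd G X).left.base w ∈ Z
      rw [lift_snd]
      exact hbase w, rfl⟩
    obtain ⟨_, ⟨_, ⟨t, rfl⟩, rfl⟩, h1, h2⟩ := (isBasis_basicOpen X.left).exists_subset_of_mem_open hxZ hZ.isOpen_compl
    have hbot : (VecGrp.pt k S).left.basicOpen (ev p t) = ⊥ := by
      show (VecGrp.pt k S).left.basicOpen (p.left.appTop t) = ⊥
      rw [← Scheme.preimage_basicOpen_top]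
      exact eq_bot_iff.mpr fun w hw => (h2 hw (hrange w)).elim
    haveI : CompactSpace (VecGrp.pt k S).left := inferInstanceAs (CompactSpace (PrimeSpectrum S))
    obtain ⟨n, hn⟩ : IsNilpotent (pullFn p t) := by
      rw [← Scheme.isNilpotent_iff_basicOpen_eq_bot] at hbot
      exact hbot.map (Scheme.ΓSpecIso (CommRingCat.of S)).hom.hom
    refine hx (t ^ (n + 1)) ?_ ?_
    · rw [RingHom.mem_ker, hδ, map_pow, pow_succ, hn, zero_mul]
    · rw [Scheme.basicOpen_pow _ _ n.succ_pos]
      exact h1

end Groth.Agent.AffQuot66
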