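import Groth.Agent.AffQuot66.Global
import Groth.Agent.AffAct66.Restrict

/-!
Maps which are affine quotients locally on the target.
-/

set_option autoImplicit false
set_option linter.unusedSectionVars false
set_option linter.style.haveILetI false
set_option backward.isDefEq.respectTransparency false
set_option backward.isDefEq.respectTransparency.types false

universe u

open CategoryTheory CategoryTheory.Limits MonoidalCategory CartesianMonoidalCategory MonObj GrpObj AlgebraicGeometry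
open TopologicalSpace Topology
open Groth.Agent.GrpSchLib.Kunneth (Fn ev)
open Groth.Agent.GrpSchLib.AffineHopf (sp spMap)

namespace Groth.Agent.AffQuot66

variable {k : Type u} [Field k] {G X Y : Over (Spec (CommRingCat.of k))} [GrpObj G] {a : AlgGrp.Action G X}
  {φ : X ⟶ Y}

theorem IsLocPair.isAffineHom (h : IsLocPair a φ) : IsAffineHom φ.left := ⟨fun U hU => (h.2 U hU).1⟩

/-- The invariant functions over an affine open give a pair when the sections are the invariants. -/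
theorem isPair_of_sections {U : Y.left.Opens} [IsAffine (preObj φ U).left]
    {b : AlgGrp.Action G (preObj φ U)} (hb : b.act ≫ preι φ U = (G ◁ preι φ U) ≫ a.act)
    (hbi : GIT.IsInvariant b (resMap φ U))
    (hsec : Function.Injective (φ.left.app U) ∧ Set.range (φ.left.app U) = {f | GIT.IsInvSection a φ U f}) :
    IsPair b (resMap φ U) := by
  have hY : ⊤ ≤ U.ι ⁻¹ᵁ U := fun z _ => z.2
  set P := φ.left ⁻¹ᵁ U
  have hX : ⊤ ≤ P.ι ⁻¹ᵁ P := fun z _ => z.2
  have key : ∀ c, ev (resMap φ U) (U.ι.appLE U ⊤ hY c) = P.ι.appLE P ⊤ hX (φ.left.app U c) := by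
    intro c
    show (φ.left ∣_ U).appTop (U.ι.appLE U ⊤ hY c) = _
    rw [← CommRingCat.comp_apply, ← CommRingCat.comp_apply, Scheme.Hom.appTop, Scheme.Hom.app_eq_appLE,
      Scheme.Hom.app_eq_appLE, Scheme.Hom.appLE_comp_appLE, Scheme.Hom.appLE_comp_appLE]
    simp only [morphismRestrict_ι]
    rfl
  refine ⟨hbi, fun c c' hcc => ?_, fun f hf => ?_⟩
  · obtain ⟨c₀, rfl⟩ := (bijective_appLE_ι U hY).2 c
    obtain ⟨c₀', rfl⟩ := (bijective_appLE_ι U hY).2 c'
    rw [key, key] at hcc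
    rw [hsec.1 ((bijective_appLE_ι P hX).1 hcc)]
  · obtain ⟨f₀, rfl⟩ := (bijective_appLE_ι P hX).2 f
    suffices h : GIT.IsInvSection a φ U f₀ by
      obtain ⟨c₀, hc₀⟩ := hsec.2.ge h
      exact ⟨U.ι.appLE U ⊤ hY c₀, by rw [key, hc₀]⟩
    let W := a.act.left ⁻¹ᵁ P ⊓ (snd G X).left ⁻¹ᵁ P
    have hW : ⊤ ≤ (G ◁ preι φ U).left ⁻¹ᵁ W := fun z _ => ⟨by
      show ((G ◁ preι φ U) ≫ a.act).left.base z ∈ P
      rw [← hb]
      exact ((b.act.left.base z)).2, by
      show ((G ◁ preι φ U) ≫ snd G X).left.base z ∈ P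
      rw [whiskerLeft_snd]
      exact (((snd G (preObj φ U)).left.base z)).2⟩
    haveI : IsOpenImmersion (preι φ U).left := inferInstanceAs (IsOpenImmersion P.ι)
    have hpb := (GITQuot.isPullback_tensorLeft (G := G) (preι φ U)).map (Over.forget _)
    haveI : IsOpenImmersion (G ◁ preι φ U).left :=
      MorphismProperty.of_isPullback hpb.flip (inferInstanceAs (IsOpenImmersion (preι φ U).left))
    haveI : IsIso ((G ◁ preι φ U).left.app W) := by
      refine Scheme.Hom.isIso_app _ W fun z hz => ?_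
      obtain ⟨w, hw, -⟩ := Scheme.exists_preimage_of_isPullback hpb z ⟨_, hz.2⟩ rfl
      exact ⟨w, hw⟩
    have hinj : Function.Injective ((G ◁ preι φ U).left.appLE W ⊤ hW).hom := by
      have e : (G ◁ preι φ U).left ⁻¹ᵁ W = ⊤ := top_le_iff.mp hW
      haveI : IsIso (homOfLE hW).op := by
        haveI : IsIso (homOfLE hW : (⊤ : (G ⊗ preObj φ U).left.Opens) ⟶ _) := ⟨⟨homOfLE e.le, rfl, rfl⟩⟩
        infer_instance
      rw [Scheme.Hom.appLE]
      exact (ConcreteCategory.bijective_of_isIso _).1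
    have key' : ∀ (m : G ⊗ X ⟶ X) (m' : G ⊗ preObj φ U ⟶ preObj φ U) (hm : W ≤ m.left ⁻¹ᵁ P),
        (G ◁ preι φ U) ≫ m = m' ≫ preι φ U →
          (G ◁ preι φ U).left.appLE W ⊤ hW (m.left.appLE P W hm f₀) = ev m' (P.ι.appLE P ⊤ hX f₀) := by
      intro m m' hm e
      show _ = m'.left.appTop ((preι φ U).left.appLE P ⊤ hX f₀)
      rw [← CommRingCat.comp_apply, ← CommRingCat.comp_apply, Scheme.Hom.appTop, Scheme.Hom.app_eq_appLE,
        Scheme.Hom.appLE_comp_appLE, Scheme.Hom.appLE_comp_appLE]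
      have e' : (G ◁ preι φ U).left ≫ m.left = m'.left ≫ (preι φ U).left := congrArg (fun z => z.left) e
      simp only [e']
      rfl
    exact hinj ((key' a.act b.act inf_le_left hb.symm).trans
      (hf.trans (key' (snd G X) (snd G _) inf_le_right (whiskerLeft_snd _ _)).symm))

variable {A : Type u} [CommRing A] [HopfAlgebra k A] (e : Grp.mk (sp k A) ≅ Grp.mk G) {α : A →ₗ[k] k}
  (hα : ComodLib.IsIntegral k α) (h1 : α 1 = 1)

include e hα h1 in
/-- A pair over a cover is a pair over every affine open. -/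
theorem IsLocPair.of_cover (hi : GIT.IsInvariant a φ) [IsAffineHom φ.left]
    (hcov : ∀ y : Y.left, ∃ (U : Y.left.Opens) (_ : IsAffineOpen U) (b : AlgGrp.Action G (preObj φ U)),
      y ∈ U ∧ b.act ≫ preι φ U = (G ◁ preι φ U) ≫ a.act ∧ IsPair b (resMap φ U)) : IsLocPair a φ := by
  have haff : ∀ U : Y.left.Opens, IsAffineOpen U → IsAffine (preObj φ U).left := fun U hU => hU.preimage φ.left
  let P : Y.left.Opens → Prop := fun T => IsAffineOpen T ∧
    ∃ (U : Y.left.Opens) (_ : IsAffineOpen U) (b : AlgGrp.Action G (preObj φ U)),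
      T ≤ U ∧ b.act ≫ preι φ U = (G ◁ preι φ U) ≫ a.act ∧ IsPair b (resMap φ U)
  have hsec := sections_of_basis hi P (fun y O hy => by
      obtain ⟨U, hU, b, hyU, hb, hp⟩ := hcov y
      obtain ⟨T, hT, hyT, hTO⟩ := exists_isAffineOpen_mem_and_subset (x := y) (U := U ⊓ O) ⟨hyU, hy⟩
      exact ⟨T, ⟨hT, U, hU, b, fun z hz => (hTO hz).1, hb, hp⟩, hyT, fun z hz => (hTO hz).2⟩) fun T hT => by
    obtain ⟨hTa, U, hU, b, hTU, hb, hp⟩ := hT
    haveI := haff T hTa
    haveI := haff U hU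
    haveI : IsAffine (Over.mk (T.ι ≫ Y.hom) : Over (Spec (CommRingCat.of k))).left := hTa
    haveI : IsAffine (Over.mk (U.ι ≫ Y.hom) : Over (Spec (CommRingCat.of k))).left := hU
    let g : (Over.mk (T.ι ≫ Y.hom) : Over (Spec (CommRingCat.of k))) ⟶ Over.mk (U.ι ≫ Y.hom) :=
      Over.homMk (Y.left.homOfLE hTU) (by
        show Y.left.homOfLE hTU ≫ U.ι ≫ Y.hom = _
        rw [← Category.assoc, Scheme.homOfLE_ι]
        rfl)
    let i : preObj φ T ⟶ preObj φ U := Over.homMk (X.left.homOfLE (φ.left.preimage_mono hTU)) (by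
      show X.left.homOfLE (φ.left.preimage_mono hTU) ≫ (φ.left ⁻¹ᵁ U).ι ≫ X.hom = _
      rw [← Category.assoc, Scheme.homOfLE_ι]
      rfl)
    have hi' : i ≫ preι φ U = preι φ T := Over.OverMorphism.ext (X.left.homOfLE_ι (φ.left.preimage_mono hTU))
    have hg : g ≫ (Over.homMk U.ι rfl : Over.mk (U.ι ≫ Y.hom) ⟶ Y) = Over.homMk T.ι rfl :=
      Over.OverMorphism.ext (Y.left.homOfLE_ι hTU)
    haveI : Mono (Over.homMk U.ι rfl : Over.mk (U.ι ≫ Y.hom) ⟶ Y) := by
      haveI : Mono (Over.homMk U.ι rfl : Over.mk (U.ι ≫ Y.hom) ⟶ Y).left := inferInstanceAs (Mono U.ι)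
      exact Over.mono_of_mono_left _
    have hw : i ≫ resMap φ U = resMap φ T ≫ g := by
      rw [← cancel_mono (Over.homMk U.ι rfl : Over.mk (U.ι ≫ Y.hom) ⟶ Y), Category.assoc, Category.assoc, hg,
        ← (isPullback_res φ U).w, ← Category.assoc, hi', (isPullback_res φ T).w]
    have hpb : IsPullback i (resMap φ T) (resMap φ U) g :=
      IsPullback.of_right (by rw [hi', hg]; exact isPullback_res φ T) hw (isPullback_res φ U)
    obtain ⟨b', hb', hb'i⟩ := GITQuot.exists_action hp.inv hpb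
    refine app_of_pair (b := b') ?_ (hp.baseChange e hα h1 hpb hb' hb'i)
    rw [← hi', ← Category.assoc, hb', Category.assoc, hb, MonoidalCategory.whiskerLeft_comp_assoc]
  refine ⟨hi, fun U hU => ⟨haff U hU, ?_⟩⟩
  obtain ⟨b, hb, hbi⟩ := GITQuot.exists_action hi (isPullback_res φ U)
  haveI := haff U hU
  exact ⟨b, hb, isPair_of_sections hb hbi (hsec U)⟩

variable {X' Y' : Over (Spec (CommRingCat.of k))} {pr : X' ⟶ X} {φ' : X' ⟶ Y'} {g : Y' ⟶ Y}
  {a' : AlgGrp.Action G X'}

include e hα h1 in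
/-- Base changes keep pairs over affine opens. -/
theorem IsLocPair.baseChange (h : IsLocPair a φ) (hpb : IsPullback pr φ' φ g)
    (heq : a'.act ≫ pr = (G ◁ pr) ≫ a.act) (hinv : GIT.IsInvariant a' φ') : IsLocPair a' φ' := by
  haveI := h.isAffineHom
  haveI : IsAffineHom φ'.left := MorphismProperty.of_isPullback (hpb.map (Over.forget _)) (inferInstanceAs (IsAffineHom φ.left))
  refine IsLocPair.of_cover e hα h1 hinv fun y => ?_
  obtain ⟨U, hU, hyU, -⟩ := exists_isAffineOpen_mem_and_subset (x := g.left.base y) (U := ⊤) trivial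
  obtain ⟨T, hT, hyT, hTU⟩ := exists_isAffineOpen_mem_and_subset (x := y) (U := g.left ⁻¹ᵁ U) hyU
  obtain ⟨ha, b, hb, hp⟩ := h.2 U hU
  haveI := ha
  haveI : IsAffine (preObj φ' T).left := hT.preimage φ'.left
  haveI : IsAffine (Over.mk (T.ι ≫ Y'.hom) : Over (Spec (CommRingCat.of k))).left := hT
  haveI : IsAffine (Over.mk (U.ι ≫ Y.hom) : Over (Spec (CommRingCat.of k))).left := hU
  have hr : Set.range (T.ι ≫ g.left).base ⊆ Set.range U.ι.base := by
    rw [Scheme.Opens.range_ι]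
    rintro _ ⟨z, rfl⟩
    exact hTU z.2
  let gT : (Over.mk (T.ι ≫ Y'.hom) : Over (Spec (CommRingCat.of k))) ⟶ Over.mk (U.ι ≫ Y.hom) :=
    Over.homMk (IsOpenImmersion.lift U.ι (T.ι ≫ g.left) hr) (by
      show IsOpenImmersion.lift U.ι _ hr ≫ U.ι ≫ Y.hom = _
      rw [IsOpenImmersion.lift_fac_assoc, Category.assoc, Over.w g]
      rfl)
  have hgT : gT ≫ (Over.homMk U.ι rfl : Over.mk (U.ι ≫ Y.hom) ⟶ Y) = Over.homMk T.ι rfl ≫ g :=
    Over.OverMorphism.ext (IsOpenImmersion.lift_fac _ _ hr)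
  have hsq := (isPullback_res φ' T).paste_horiz hpb
  let i : preObj φ' T ⟶ preObj φ U := (isPullback_res φ U).lift (preι φ' T ≫ pr) (resMap φ' T ≫ gT) (by
    rw [Category.assoc, Category.assoc, hgT, hpb.w, ← Category.assoc, (isPullback_res φ' T).w, Category.assoc])
  have hi : i ≫ preι φ U = preι φ' T ≫ pr := (isPullback_res φ U).lift_fst _ _ _
  have hw : i ≫ resMap φ U = resMap φ' T ≫ gT := (isPullback_res φ U).lift_snd _ _ _
  have hpb' : IsPullback i (resMap φ' T) (resMap φ U) gT :=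
    IsPullback.of_right (by rw [hi, hgT]; exact hsq) hw (isPullback_res φ U)
  obtain ⟨b', hb', hb'i⟩ := GITQuot.exists_action hp.inv hpb'
  refine ⟨T, hT, b', hyT, ?_, hp.baseChange e hα h1 hpb' hb' hb'i⟩
  apply hpb.hom_ext
  · rw [Category.assoc, Category.assoc, heq, ← hi, ← MonoidalCategory.whiskerLeft_comp_assoc, ← hi,
      ← Category.assoc b'.act, hb', Category.assoc, hb, MonoidalCategory.whiskerLeft_comp_assoc]
  · rw [Category.assoc, Category.assoc, hinv, (isPullback_res φ' T).w, ← Category.assoc, hb'i,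
      ← Category.assoc (G ◁ preι φ' T), whiskerLeft_snd, Category.assoc, Category.assoc, (isPullback_res φ' T).w]

include e hα h1 in
theorem IsLocPair.isUnivCatQuot (h : IsLocPair a φ) : GIT.IsUnivCatQuot a φ :=
  ⟨h.isCatQuot e hα h1, fun _ _ _ _ _ _ hpb _ heq hinv => (h.baseChange e hα h1 hpb heq hinv).isCatQuot e hα h1⟩

include e hα h1 in
theorem IsLocPair.isUnivSubmersive (h : IsLocPair a φ) : GIT.IsUnivSubmersive φ.left := by
  intro X₁ Y₁ i₁ i₂ f' hsq
  let Y' : Over (Spec (CommRingCat.of k)) := Over.mk (i₂ ≫ Y.hom)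
  let X' : Over (Spec (CommRingCat.of k)) := Over.mk (f' ≫ Y'.hom)
  let φ' : X' ⟶ Y' := Over.homMk f' rfl
  let g : Y' ⟶ Y := Over.homMk i₂ rfl
  let pr : X' ⟶ X := Over.homMk i₁ (by
    show i₁ ≫ X.hom = f' ≫ i₂ ≫ Y.hom
    rw [← Category.assoc, hsq.w, Category.assoc, Over.w])
  have hpb : IsPullback pr φ' φ g := IsPullback.of_map (Over.forget _) (Over.OverMorphism.ext hsq.w.symm) hsq.flip
  obtain ⟨a', heq, hinv⟩ := GITQuot.exists_action h.1 hpb
  exact (h.baseChange e hα h1 hpb heq hinv).isQuotientMap e hα h1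

end Groth.Agent.AffQuot66
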