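import Groth.Agent.AffQuot66.Global
import Groth.Agent.LinRed66.Bridge
import Mathlib.AlgebraicGeometry.Noetherian
import Mathlib.RingTheory.Adjoin.Basic

/-!
The quotient of an affine scheme by a reductive group in characteristic zero.
-/

set_option autoImplicit false
set_option linter.unusedSectionVars false
set_option linter.style.haveILetI false
set_option backward.isDefEq.respectTransparency false
set_option backward.isDefEq.respectTransparency.types false

universe u

open CategoryTheory CategoryTheory.Limits MonoidalCategory CartesianMonoidalCategory MonObj GrpObj AlgebraicGeometry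
open Groth.Agent.GrpSchLib.Kunneth (Fn ev)
open Groth.Agent.GrpSchLib.AffineHopf (sp)

namespace Groth.Agent.AffQuot66

variable {k : Type u} [Field k]

/-- A reductive group in characteristic zero has a model with an invariant integral. -/
theorem exists_integral_model [CharZero k] {G : Over (Spec (CommRingCat.of k))} [GrpObj G] (hG : Red.IsReductive G) :
    ∃ (A : Type u) (_ : CommRing A) (_ : HopfAlgebra k A) (α : A →ₗ[k] k),
      ComodLib.IsIntegral k α ∧ α 1 = 1 ∧ Algebra.FiniteType k A ∧ Nonempty (Grp.mk (sp k A) ≅ Grp.mk G) := by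
  obtain ⟨A, _, _, hft, hlr, he⟩ := LinRed66.exists_model_isLinearlyReductive hG
  obtain ⟨α, hα, h1⟩ := ComodLib.exists_integral_of_isLinearlyReductive hlr
  exact ⟨A, inferInstance, inferInstance, α, hα, h1, hft, he⟩

variable {G X : Over (Spec (CommRingCat.of k))} [GrpObj G] [IsAffine X.left] {A : Type u} [CommRing A]
  [HopfAlgebra k A] (e : Grp.mk (sp k A) ≅ Grp.mk G) (a : AlgGrp.Action G X)

/-- The algebra of invariant functions. -/
noncomputable def invSubalg : Subalgebra k (Fn X) :=
  letI := comod e a
  haveI := isCoactAlg e a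
  GLin.invariants k A (Fn X)

theorem mem_invSubalg {f : Fn X} : f ∈ invSubalg e a ↔ GLinSh.IsInvFn a f := coactAlg_eq_iff e a f

/-- The map to the spectrum of the invariants. -/
noncomputable def toQuot : X ⟶ VecGrp.pt k (invSubalg e a) := HMSec.toSpec X (invSubalg e a).val

theorem ev_toQuot (r : invSubalg e a) :
    ev (toQuot e a) ((Scheme.ΓSpecIso (CommRingCat.of (invSubalg e a))).inv r) = r.1 := HMSec.ev_toSpec _ r

theorem surjective_inv (c : Fn (VecGrp.pt k (invSubalg e a))) :
    ∃ r, (Scheme.ΓSpecIso (CommRingCat.of (invSubalg e a))).inv r = c :=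
  ⟨(Scheme.ΓSpecIso (CommRingCat.of (invSubalg e a))).hom c,
    Iso.hom_inv_id_apply (Scheme.ΓSpecIso (CommRingCat.of (invSubalg e a))) c⟩

theorem isPair_toQuot : IsPair a (toQuot e a) := by
  refine ⟨?_, fun c c' hcc => ?_, fun f hf => ⟨_, ev_toQuot e a ⟨f, (mem_invSubalg e a).mpr hf⟩⟩⟩
  · show a.act ≫ toQuot e a = snd G X ≫ toQuot e a
    rw [toQuot, HMSec.comp_toSpec, HMSec.comp_toSpec]
    exact congrArg _ (AlgHom.ext fun r => (mem_invSubalg e a).mp r.2)
  · obtain ⟨r, rfl⟩ := surjective_inv e a c
    obtain ⟨r', rfl⟩ := surjective_inv e a c'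
    rw [ev_toQuot, ev_toQuot] at hcc
    rw [Subtype.ext hcc]

theorem range_toQuot :
    Set.range (toQuot e a).left.appTop = {f : Γ(X.left, ⊤) | a.act.left.appTop f = (snd G X).left.appTop f} := by
  refine Set.Subset.antisymm ?_ fun f hf => (isPair_toQuot e a).range f hf
  rintro _ ⟨c, rfl⟩
  exact isInvFn_ev (isPair_toQuot e a).inv c

variable {α : A →ₗ[k] k} (hα : ComodLib.IsIntegral k α) (h1 : α 1 = 1)

include hα h1 in
theorem isNoetherian_quot [IsNoetherian X.left] : IsNoetherian (VecGrp.pt k (invSubalg e a)).left := by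
  letI := comod e a
  haveI := isCoactAlg e a
  haveI : IsNoetherianRing (Fn X) := IsLocallyNoetherian.component_noetherian ⟨⊤, isAffineOpen_top X.left⟩
  haveI : IsNoetherianRing (invSubalg e a) := ComodLib.isNoetherianRing_invariants hα h1
  exact inferInstanceAs (IsNoetherian (Spec (CommRingCat.of (invSubalg e a))))

include hα h1 in
theorem locallyOfFiniteType_quot [LocallyOfFiniteType X.hom] :
    LocallyOfFiniteType (VecGrp.pt k (invSubalg e a)).hom := by
  letI := comod e a
  haveI := isCoactAlg e a
  haveI : Algebra.FiniteType k (Fn X) := by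
    have hX : LocallyOfFiniteType X.hom := inferInstance
    have h := (HasRingHomProperty.iff_of_isAffine (P := @LocallyOfFiniteType)).mp hX
    exact h.comp (RingHom.FiniteType.of_surjective _
      (Scheme.ΓSpecIso (CommRingCat.of k)).commRingCatIsoToRingEquiv.symm.surjective)
  obtain ⟨s, hs⟩ := ComodLib.exists_finset_invariants_adjoin (A := A) (C := Fn X) hα h1
  have hft : Algebra.FiniteType k (invSubalg e a) := (Subalgebra.fg_iff_finiteType _).mp ⟨s, hs.symm⟩
  show LocallyOfFiniteType (Spec.map (CommRingCat.ofHom (algebraMap k (invSubalg e a))))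
  rw [HasRingHomProperty.Spec_iff (P := @LocallyOfFiniteType)]
  exact RingHom.finiteType_algebraMap.mpr hft

end Groth.Agent.AffQuot66
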