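import Groth.Agent.AffQuot66.Ideal
import Groth.Agent.ComodLib.Integral
import Groth.Prelude.Def_W4bk4git07Quot
import Mathlib.RingTheory.Ideal.Operations

/-!
Affine quotients by invariants: fibres, separation of invariant closed sets and base change.
-/

set_option autoImplicit false
set_option linter.unusedSectionVars false
set_option linter.style.haveILetI false
set_option backward.isDefEq.respectTransparency false
set_option backward.isDefEq.respectTransparency.types false

universe u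

open CategoryTheory CategoryTheory.Limits MonoidalCategory CartesianMonoidalCategory MonObj GrpObj AlgebraicGeometry
open TensorProduct WithConv TopologicalSpace
open Groth.Agent.GrpSchLib.Kunneth (Fn ev pullFn)
open Groth.Agent.GrpSchLib.AffineHopf (sp spMap)

namespace Groth.Agent.AffQuot66

open HMAmple

variable {k : Type u} [Field k] {G X Y : Over (Spec (CommRingCat.of k))} [GrpObj G]

/-- An invariant map whose functions are the invariant functions. -/
structure IsPair (a : AlgGrp.Action G X) (φ : X ⟶ Y) : Prop where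
  inv : GIT.IsInvariant a φ
  inj : Function.Injective (ev φ)
  range : ∀ f : Fn X, GLinSh.IsInvFn a f → ∃ c, ev φ c = f

theorem isInvFn_ev {a : AlgGrp.Action G X} {φ : X ⟶ Y} (hi : GIT.IsInvariant a φ) (c : Fn Y) :
    GLinSh.IsInvFn a (ev φ c) := by
  show ev a.act (ev φ c) = ev (snd G X) (ev φ c)
  rw [GrpSchLib.Kunneth.ev_ev, GrpSchLib.Kunneth.ev_ev, hi]

theorem mem_toSpecΓ {W : Scheme.{u}} (w : W) (r : Γ(W, ⊤)) :
    r ∈ (W.toSpecΓ.base w).asIdeal ↔ w ∉ W.basicOpen r := by
  rw [← Scheme.toSpecΓ_preimage_basicOpen]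
  exact (not_not).symm

theorem notMem_basicOpen_ev {φ : X ⟶ Y} (x : X.left) (c : Fn Y) :
    x ∈ X.left.basicOpen (ev φ c) ↔ φ.left.base x ∈ Y.left.basicOpen c := by
  show x ∈ X.left.basicOpen (φ.left.appTop c) ↔ _
  rw [← Scheme.preimage_basicOpen_top]
  rfl

variable [IsAffine X.left] [IsAffine Y.left] {A : Type u} [CommRing A] [HopfAlgebra k A]
  (e : Grp.mk (sp k A) ≅ Grp.mk G) {α : A →ₗ[k] k} (hα : ComodLib.IsIntegral k α) (h1 : α 1 = 1)
  {a : AlgGrp.Action G X} {φ : X ⟶ Y} (hφ : IsPair a φ)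

/-- The Reynolds operator on functions. -/
noncomputable def reyFn (a : AlgGrp.Action G X) (α : A →ₗ[k] k) : Fn X →ₗ[k] Fn X :=
  letI := comod e a
  ComodLib.rey (A := A) α

include hα in
theorem isInvFn_reyFn (r : Fn X) : GLinSh.IsInvFn a (reyFn e a α r) := by
  letI := comod e a
  exact (coactAlg_eq_iff e a _).mp (ComodLib.rey_mem_fixedPts hα r)

include h1 in
theorem reyFn_of_isInvFn {r : Fn X} (h : GLinSh.IsInvFn a r) : reyFn e a α r = r := by
  letI := comod e a
  exact ComodLib.rey_of_fixed h1 ((coactAlg_eq_iff e a r).mpr h)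

theorem reyFn_mul (x : Fn X) {y : Fn X} (h : GLinSh.IsInvFn a y) :
    reyFn e a α (x * y) = reyFn e a α x * y := by
  letI := comod e a
  haveI := isCoactAlg e a
  exact ComodLib.rey_mul_invariant x ((coactAlg_eq_iff e a y).mpr h)

include e hα h1 hφ in
/-- Invariant functions in a stable ideal detect its image. -/
theorem exists_point_of_stable {J : Ideal (Fn X)}
    (hJ : @HopfRep.IsSubcomod k A _ _ _ _ (Fn X) _ _ (comod e a) (J.restrictScalars k)) {y : Y.left}
    (hy : ∀ c, ev φ c ∈ J → y ∉ Y.left.basicOpen c) :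
    ∃ x : X.left, φ.left.base x = y ∧ ∀ s ∈ J, x ∉ X.left.basicOpen s := by
  let p := (Y.left.toSpecΓ.base y).asIdeal
  let M : Submonoid (Fn X) := p.primeCompl.map (ev φ).toMonoidHom
  have hdisj : Disjoint ((J ⊔ p.map (ev φ).toRingHom : Ideal (Fn X)) : Set (Fn X)) (M : Set (Fn X)) := by
    rw [Set.disjoint_left]
    rintro _ hu ⟨c, hc, rfl⟩
    have hu' : ev φ c ∈ J ⊔ p.map (ev φ).toRingHom := hu
    obtain ⟨j, hj, q, hq, hjq⟩ := Submodule.mem_sup.mp hu'
    have hrey : ∀ q ∈ p.map (ev φ).toRingHom, ∀ r, ∃ t ∈ p, reyFn e a α (r * q) = ev φ t := by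
      intro q hq
      refine Submodule.span_induction ?_ ?_ ?_ ?_ hq
      · rintro _ ⟨t, ht, rfl⟩ r
        obtain ⟨s, hs⟩ := hφ.range _ (isInvFn_reyFn e hα r)
        refine ⟨s * t, p.mul_mem_left _ ht, ?_⟩
        show reyFn e a α (r * ev φ t) = _
        rw [reyFn_mul e r (isInvFn_ev hφ.inv t), map_mul, hs]
      · exact fun r => ⟨0, p.zero_mem, by rw [mul_zero, map_zero, map_zero]⟩
      · intro x x' _ _ hx hx' r
        obtain ⟨t, ht, h⟩ := hx r
        obtain ⟨t', ht', h'⟩ := hx' r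
        exact ⟨t + t', p.add_mem ht ht', by rw [mul_add, map_add, map_add, h, h']⟩
      · intro b x _ hx r
        obtain ⟨t, ht, h⟩ := hx (r * b)
        exact ⟨t, ht, by rw [smul_eq_mul, ← _root_.mul_assoc, h]⟩
    obtain ⟨t₀, ht₀⟩ := hφ.range _ (isInvFn_reyFn e hα j)
    have ht₀p : t₀ ∈ p := by
      refine (mem_toSpecΓ y t₀).mpr (hy t₀ ?_)
      rw [ht₀]
      letI := comod e a
      exact ComodLib.rey_mem_of_isSubcomod hJ hj
    obtain ⟨t₁, ht₁, hq'⟩ := hrey q hq 1
    rw [_root_.one_mul] at hq'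
    refine hc ?_
    have : ev φ c = ev φ (t₀ + t₁) := by
      rw [← reyFn_of_isInvFn e h1 (isInvFn_ev hφ.inv c), ← hjq, map_add, map_add, ← ht₀, hq']
    rw [hφ.inj this]
    exact p.add_mem ht₀p ht₁
  obtain ⟨q, hq, hle, hqM⟩ := Ideal.exists_le_prime_disjoint _ M hdisj
  obtain ⟨x, hx⟩ := (X.left.isoSpec.hom.homeomorph.surjective ⟨q, hq⟩)
  have hxq : ∀ r, r ∈ q ↔ x ∉ X.left.basicOpen r := fun r => by
    rw [← mem_toSpecΓ]
    exact (congrArg (fun z : PrimeSpectrum (Fn X) => r ∈ z.asIdeal) hx).to_iff.symm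
  refine ⟨x, ?_, fun s hs => (hxq s).mp (hle (Submodule.mem_sup_left hs))⟩
  refine Y.left.isoSpec.hom.homeomorph.injective (PrimeSpectrum.ext (SetLike.ext fun t => ?_))
  show t ∈ (Y.left.toSpecΓ.base (φ.left.base x)).asIdeal ↔ t ∈ p
  rw [mem_toSpecΓ, ← notMem_basicOpen_ev, ← hxq]
  refine ⟨fun ht => ?_, fun ht => hle (Submodule.mem_sup_right (Ideal.mem_map_of_mem (ev φ).toRingHom ht))⟩
  by_contra htp
  exact Set.disjoint_left.mp hqM ht ⟨t, htp, rfl⟩

include e hα h1 hφ in
theorem IsPair.surjective : Function.Surjective φ.left.base := fun y => by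
  letI := comod e a
  obtain ⟨x, hx, -⟩ := exists_point_of_stable e hα h1 hφ (J := ⊥) (y := y) (by
    intro v hv
    rw [Submodule.restrictScalars_mem, Ideal.mem_bot] at hv
    subst hv
    rw [map_zero]
    exact Submodule.zero_mem _) (fun c hc => by
    rw [hφ.inj ((Ideal.mem_bot.mp hc).trans (map_zero (ev φ)).symm), Scheme.basicOpen_zero]
    exact id)
  exact ⟨x, hx⟩

include e hα h1 hφ in
/-- The image of an invariant closed set is closed. -/
theorem IsPair.isClosed_image {Z : Set X.left} (hZ : IsClosed Z)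
    (hi : a.act.left.base '' ((snd G X).left.base ⁻¹' Z) ⊆ Z) : IsClosed (φ.left.base '' Z) := by
  obtain ⟨J, hJ, hZJ⟩ := exists_stable_ideal e a hZ hi
  have : φ.left.base '' Z = ⋂ c ∈ {c : Fn Y | ev φ c ∈ J}, ((Y.left.basicOpen c : Set Y.left)ᶜ) := by
    refine Set.ext fun y => ⟨?_, fun hy => ?_⟩
    · rintro ⟨x, hx, rfl⟩
      refine Set.mem_iInter₂.mpr fun c hc h => ?_
      exact (hZJ x).mp hx _ hc ((notMem_basicOpen_ev x c).mpr h)
    · obtain ⟨x, hx, hxJ⟩ := exists_point_of_stable e hα h1 hφ hJ (y := y)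
        fun c hc => Set.mem_iInter₂.mp hy c hc
      exact ⟨x, (hZJ x).mpr hxJ, hx⟩
  rw [this]
  exact isClosed_biInter fun c _ => (Y.left.basicOpen c).isOpen.isClosed_compl

include e hα h1 hφ in
/-- Invariant closed sets without a common point have images without a common point. -/
theorem IsPair.exists_notMem_image {J : Type*} (Z : J → Set X.left)
    (hZ : ∀ i, IsClosed (Z i) ∧ a.act.left.base '' ((snd G X).left.base ⁻¹' Z i) ⊆ Z i)
    (hne : ∀ x, ∃ i, x ∉ Z i) (y : Y.left) : ∃ i, y ∉ φ.left.base '' Z i := by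
  letI := comod e a
  choose K hK hZK using fun i => exists_stable_ideal e a (hZ i).1 (hZ i).2
  have hsum : (1 : Fn X) ∈ ⨆ i, (K i).restrictScalars k := by
    have htop : (⨆ i, K i) = ⊤ := by
      by_contra h
      obtain ⟨m, hm, hle⟩ := Ideal.exists_le_maximal _ h
      obtain ⟨x, hx⟩ := X.left.isoSpec.hom.homeomorph.surjective ⟨m, hm.isPrime⟩
      obtain ⟨i, hi⟩ := hne x
      refine hi ((hZK i x).mpr fun s hs => (mem_toSpecΓ x s).mp ?_)
      show s ∈ (X.left.isoSpec.hom.homeomorph x).asIdeal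
      rw [hx]
      exact hle (Submodule.mem_iSup_of_mem i hs)
    rw [← Submodule.restrictScalars_iSup, Submodule.restrictScalars_mem, htop]
    trivial
  by_contra hall
  push Not at hall
  have key : ∀ r ∈ ⨆ i, (K i).restrictScalars k, ∀ c, ev φ c = reyFn e a α r → y ∉ Y.left.basicOpen c := by
    intro r hr
    refine Submodule.iSup_induction _ (motive := fun r => ∀ c, ev φ c = reyFn e a α r → y ∉ Y.left.basicOpen c) hr
      (fun i r hr c hc => ?_) (fun c hc => ?_) fun r r' hr hr' c hc h => ?_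
    · obtain ⟨x, hx, rfl⟩ := hall i
      intro h
      exact (hZK i x).mp hx _ (ComodLib.rey_mem_of_isSubcomod (α := α) (hK i) hr)
        (hc ▸ (notMem_basicOpen_ev x c).mpr h : x ∈ X.left.basicOpen (reyFn e a α r))
    · rw [map_zero] at hc
      rw [hφ.inj (hc.trans (map_zero (ev φ)).symm), Scheme.basicOpen_zero]
      exact id
    · obtain ⟨t, ht⟩ := hφ.range _ (isInvFn_reyFn e hα r)
      obtain ⟨t', ht'⟩ := hφ.range _ (isInvFn_reyFn e hα r')
      rw [show c = t + t' from hφ.inj (by rw [hc, map_add, map_add, ht, ht'])] at h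
      rcases Scheme.basicOpen_add_le _ t t' h with h | h
      · exact hr t ht h
      · exact hr' t' ht' h
  refine key 1 hsum 1 ?_ ?_
  · rw [map_one, reyFn_of_isInvFn e h1 (show GLinSh.IsInvFn a 1 from by
      show a.act.left.appTop 1 = (snd G X).left.appTop 1
      rw [map_one, map_one])]
  · rw [Scheme.basicOpen_of_isUnit _ isUnit_one]
    trivial

variable {X' Y' : Over (Spec (CommRingCat.of k))} {pr : X' ⟶ X} {φ' : X' ⟶ Y'} {g : Y' ⟶ Y} [IsAffine X'.left]
  [IsAffine Y'.left] {a' : AlgGrp.Action G X'}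

include hα h1 in
/-- Equivariant maps commute with the Reynolds operators. -/
theorem ev_reyFn (heq : a'.act ≫ pr = (G ◁ pr) ≫ a.act) (r : Fn X) :
    ev pr (reyFn e a α r) = reyFn e a' α (ev pr r) := by
  letI := comod e a
  letI := comod e a'
  have hc : ∀ f : Fn X, coactAlg e a' (ev pr f) = Algebra.TensorProduct.map (ev pr) (AlgHom.id k A) (coactAlg e a f) := by
    intro f
    let S := Fn X' ⊗[k] A
    let χ : Fn X →ₐ[k] S := (Algebra.TensorProduct.includeLeft : Fn X' →ₐ[k] S).comp (ev pr)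
    have hm : Algebra.TensorProduct.map (ev pr) (AlgHom.id k A) =
        Algebra.TensorProduct.lift χ (Algebra.TensorProduct.includeRight : A →ₐ[k] S) fun _ _ => .all _ _ := by
      refine Algebra.TensorProduct.ext (AlgHom.ext fun r => ?_) (AlgHom.ext fun b => ?_)
      · simp [χ, S]
      · simp [χ, S]
    rw [hm, ← AlgHom.comp_apply _ (coactAlg e a), lift_comp_coactAlg, coactAlg, GrpSchLib.Kunneth.pullFn_apply,
      GrpSchLib.Kunneth.ev_ev, Category.assoc, heq, lift_whiskerLeft_assoc, ← GrpSchLib.Kunneth.pullFn_apply]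
    rw [show pointOf (Algebra.TensorProduct.includeLeft : Fn X' →ₐ[k] S) ≫ pr = pointOf χ from point_ext (AlgHom.ext fun r => by
      rw [pullFn_pointOf, GrpSchLib.Kunneth.pullFn_apply, ← GrpSchLib.Kunneth.ev_ev, ← GrpSchLib.Kunneth.pullFn_apply,
        pullFn_pointOf]
      rfl)]
  refine ComodLib.map_rey (f := (ev pr).toLinearMap) (LinearMap.ext fun f => ?_) r
  exact (hc f)

include e hα h1 hφ in
/-- Affine base changes of pairs are pairs. -/
theorem IsPair.baseChange (hpb : IsPullback pr φ' φ g) (heq : a'.act ≫ pr = (G ◁ pr) ≫ a.act)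
    (hinv : GIT.IsInvariant a' φ') : IsPair a' φ' := by
  have hpo : IsPushout φ.left.appTop g.left.appTop pr.left.appTop φ'.left.appTop :=
    isPushout_appTop_of_isPullback (hpb.map (Over.forget _))
  letI : Algebra (Fn Y) (Fn X) := (ev φ).toRingHom.toAlgebra
  letI : Algebra (Fn Y) (Fn Y') := (ev g).toRingHom.toAlgebra
  have hT := CommRingCat.isPushout_tensorProduct (Fn Y) (Fn X) (Fn Y')
  let ε := hT.isoIsPushout _ _ hpo
  have hε : ∀ r b, ε.hom (r ⊗ₜ[Fn Y] b) = ev pr r * ev φ' b := fun r b => by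
    have h1 : ε.hom (r ⊗ₜ[Fn Y] (1 : Fn Y')) = ev pr r := congr($(IsPushout.inl_isoIsPushout_hom _ _ hT hpo) r)
    have h2 : ε.hom ((1 : Fn X) ⊗ₜ[Fn Y] b) = ev φ' b := congr($(IsPushout.inr_isoIsPushout_hom _ _ hT hpo) b)
    rw [← h1, ← h2, show r ⊗ₜ[Fn Y] b = (r ⊗ₜ[Fn Y] (1 : Fn Y')) * ((1 : Fn X) ⊗ₜ[Fn Y] b) by simp]
    exact map_mul ε.hom.hom _ _
  have hsurj := (ConcreteCategory.bijective_of_isIso ε.hom).2
  have hY : ∀ f : Fn X', ∃ b, reyFn e a' α f = ev φ' b := by
    intro f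
    obtain ⟨z, rfl⟩ := hsurj f
    induction z using TensorProduct.induction_on with
    | zero => exact ⟨0, by rw [show ε.hom (0 : Fn X ⊗[Fn Y] Fn Y') = 0 from map_zero ε.hom.hom, map_zero, map_zero]⟩
    | tmul r b =>
      obtain ⟨c, hc⟩ := hφ.range _ (isInvFn_reyFn e hα r)
      refine ⟨ev g c * b, ?_⟩
      rw [hε, reyFn_mul e _ (isInvFn_ev hinv b), ← ev_reyFn e hα h1 heq, ← hc, map_mul, GrpSchLib.Kunneth.ev_ev,
        GrpSchLib.Kunneth.ev_ev, hpb.w]
    | add z z' hz hz' =>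
      obtain ⟨b, hb⟩ := hz
      obtain ⟨b', hb'⟩ := hz'
      exact ⟨b + b', by rw [show ε.hom (z + z') = ε.hom z + ε.hom z' from map_add ε.hom.hom _ _, map_add, map_add,
        hb, hb']⟩
  refine ⟨hinv, ?_, fun f hf => ?_⟩
  · choose ρ hρ using fun r => hφ.range _ (isInvFn_reyFn e hα (a := a) r)
    let π : Fn X →ₗ[Fn Y] Fn Y :=
      { toFun := ρ
        map_add' := fun r r' => hφ.inj (by rw [map_add, hρ, hρ, hρ, map_add])
        map_smul' := fun c r => hφ.inj (by
          show ev φ (ρ (ev φ c * r)) = ev φ (c * ρ r)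
          rw [hρ, _root_.mul_comm, reyFn_mul e r (isInvFn_ev hφ.inv c), map_mul, hρ, _root_.mul_comm]) }
    rw [injective_iff_map_eq_zero]
    intro b hb
    have h0 : ε.hom ((1 : Fn X) ⊗ₜ[Fn Y] b) = 0 := by rw [hε, map_one, _root_.one_mul, hb]
    have hz : ((1 : Fn X) ⊗ₜ[Fn Y] b) = 0 :=
      (ConcreteCategory.bijective_of_isIso ε.hom).1 (h0.trans (map_zero ε.hom.hom).symm)
    have h3 := congrArg (TensorProduct.lid (Fn Y) (Fn Y') ∘ π.rTensor (Fn Y')) hz
    have hπ1 : π 1 = 1 := hφ.inj (by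
      show ev φ (ρ 1) = ev φ 1
      rw [hρ, reyFn_of_isInvFn e h1 (show GLinSh.IsInvFn a (1 : Fn X) from by
        show a.act.left.appTop 1 = (snd G X).left.appTop 1
        rw [map_one, map_one]), map_one])
    simpa [hπ1] using h3
  · obtain ⟨b, hb⟩ := hY f
    exact ⟨b, hb.symm.trans (reyFn_of_isInvFn e h1 hf)⟩

end Groth.Agent.AffQuot66
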